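import Groth.Agent.Lib.GerbAbs16.Basic
import Groth.Agent.Lib.FC16.OverStack

/-! Absolute gerbes. -/

universe v₅ u₅ v₄ u₄ v₃ u₃ v₂ u₂ v u

open CategoryTheory CategoryTheory.Functor

set_option autoImplicit false
set_option linter.style.haveILetI false
set_option linter.unusedSimpArgs false
set_option linter.unusedSectionVars false
set_option backward.isDefEq.respectTransparency false
set_option backward.isDefEq.respectTransparency.types false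

namespace Groth.Agent.GerbAbs

open Groth.Agent.FC16

variable {C : Type u} [Category.{v} C] {J : GrothendieckTopology C}
  {𝒳 : BasedCategory.{v₂, u₂} C} {𝒴 : BasedCategory.{v₃, u₃} C}

theorem comp_toSelf (F : 𝒳 ⥤ᵇ 𝒴) : BasedFunctor.comp F (FibCat.toSelf 𝒴) = FibCat.toSelf 𝒳 :=
  basedFunctor_ext F.w

theorem isGerbe_of_isEquivOver {F : 𝒳 ⥤ᵇ 𝒴} (hF : FibCat.IsEquivOver F) (h : Gerb.IsGerbe J 𝒳) :
    Gerb.IsGerbe J 𝒴 := by
  refine ⟨(isStack_iff_of_isEquivOver J hF).1 h.1, isGerbeOver_of_comp_isEquivOver h.1.1 hF ?_⟩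
  rw [comp_toSelf]
  exact h.2

theorem isGerbe_iff_of_isEquivOver {F : 𝒳 ⥤ᵇ 𝒴} (hF : FibCat.IsEquivOver F) :
    Gerb.IsGerbe J 𝒳 ↔ Gerb.IsGerbe J 𝒴 := by
  obtain ⟨G, hG, -, -⟩ := exists_inverse hF
  exact ⟨isGerbe_of_isEquivOver hF, isGerbe_of_isEquivOver hG⟩

/-- A gerbe fibred in groupoids over its target is a gerbe over the target. -/
theorem isGerbe_restricted (hX : Stk.IsStack J 𝒳) (hY : Stk.IsStack J 𝒴) (F : 𝒳 ⥤ᵇ 𝒴)
    (hF : FibCat.IsFibGrpd F.toFunctor) (h : Gerb.IsGerbeOver J F) :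
    Gerb.IsGerbe (𝒴.p.restrictedTopology J) (BasedCategory.ofFunctor F.toFunctor) := by
  have mem : ∀ {y : 𝒴.obj} {R : Sieve (𝒴.p.obj y)}, R ∈ J (𝒴.p.obj y) →
      R.functorPullback 𝒴.p ∈ 𝒴.p.restrictedTopology J y := fun {y R} hR =>
    (mem_restrictedTopology_iff hY.1 J _).2 (by rwa [push_functorPullback hY.1])
  refine ⟨isStack_restricted (𝒳 := 𝒳) J hX hY F hF, fun y => ?_, fun x x' b hb => ?_⟩
  · obtain ⟨R, hR, h'⟩ := h.1 y
    refine ⟨R.functorPullback 𝒴.p, mem hR, fun y' k hk => ?_⟩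
    obtain ⟨x, g, hg⟩ := h' (𝒴.p.map k) hk
    haveI := hg
    obtain ⟨β, hβ, hβ'⟩ := exists_iso_fac hY.1 (𝒴.p.map k) g k
    obtain ⟨x', χ, hχ⟩ := FC16.exists_lift hF (x := x) rfl β.inv
    have e : F.toFunctor.obj x' = y' := domEq hχ
    exact ⟨x', eqToHom e ≫ k, IsHomLift.of_fac' (𝟭 𝒴.obj) k _ e rfl (by simp)⟩
  · haveI hb₀ : (𝟭 𝒴.obj).IsHomLift (𝟙 (F.toFunctor.obj x)) b := hb
    have hb' : 𝒴.p.IsHomLift (𝟙 (𝒳.p.obj x)) (show F.obj x ⟶ F.obj x' from b) := by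
      refine IsHomLift.of_fac' 𝒴.p _ _ (F.w_obj x) ?_ ?_
      · have e : F.obj x' = F.obj x := IsHomLift.codomain_eq (𝟭 𝒴.obj) (𝟙 (F.toFunctor.obj x)) b
        rw [e]; exact F.w_obj x
      · have e := IsHomLift.fac' (𝟭 𝒴.obj) (𝟙 (F.toFunctor.obj x)) b
        change b = _ at e
        conv_lhs => rw [e]
        simp [eqToHom_map]
    obtain ⟨R, hR, h'⟩ := locSurjHom_at J h.2 x x' b rfl hb'
    let R' : Sieve (𝒴.p.obj (F.obj x)) := R.pullback (eqToHom (F.w_obj x))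
    refine ⟨R'.functorPullback 𝒴.p, mem (J.pullback_stable _ hR), fun y' k hk => ?_⟩
    obtain ⟨x₀, φ, ψ, hφ, hψ, e⟩ := h' _ hk
    haveI : 𝒴.p.IsHomLift (𝒴.p.map k ≫ eqToHom (F.w_obj x)) (F.map φ) := by haveI := hφ; infer_instance
    haveI : 𝒴.p.IsHomLift (𝒴.p.map k ≫ eqToHom (F.w_obj x)) k :=
      IsHomLift.of_fac' 𝒴.p _ _ rfl (F.w_obj x) (by simp)
    obtain ⟨β, hβ, hβ'⟩ := exists_iso_fac hY.1 (𝒴.p.map k ≫ eqToHom (F.w_obj x)) (F.map φ) k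
    obtain ⟨x₁, χ, hχ⟩ := FC16.exists_lift hF (x := x₀) rfl β.inv
    have e₁ : F.toFunctor.obj x₁ = y' := domEq hχ
    have eχ : F.map χ = eqToHom e₁ ≫ β.inv := by
      haveI := hχ
      simpa using IsHomLift.fac' F.toFunctor β.inv χ
    have e₂ : F.map (χ ≫ φ) = eqToHom e₁ ≫ k := by
      rw [map_comp', eχ, Category.assoc]
      exact congrArg (eqToHom e₁ ≫ ·) ((Iso.inv_comp_eq β).2 hβ'.symm)
    have e₃ : F.map (χ ≫ ψ) = F.map (χ ≫ φ) ≫ b := by rw [map_comp', map_comp', Category.assoc, e]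
    refine ⟨x₁, χ ≫ φ, χ ≫ ψ, IsHomLift.of_fac' F.toFunctor k _ e₁ rfl (by simpa using e₂),
      IsHomLift.of_fac' F.toFunctor k _ e₁
        (IsHomLift.codomain_eq (𝟭 𝒴.obj) (𝟙 (F.toFunctor.obj x)) b) ?_, e₃.symm⟩
    refine e₃.trans ?_
    have eb := IsHomLift.fac' (𝟭 𝒴.obj) (𝟙 (F.toFunctor.obj x)) b
    change b = _ at eb
    rw [e₂]
    conv_lhs => rw [eb]
    simp

end Groth.Agent.GerbAbs
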