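import Groth.Agent.Lib.GerbAbs16.MorGerbe
import Groth.Agent.Lib.StAlg16.Inertia
import Groth.Agent.Lib.StAlg16.QCMor

/-! Consequences for gerbes: translations between `LocQ` and representable properties. -/

universe u

open CategoryTheory CategoryTheory.Functor CategoryTheory.Limits AlgebraicGeometry Opposite

set_option linter.style.haveILetI false
set_option linter.unusedSectionVars false
set_option backward.isDefEq.respectTransparency false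
set_option backward.isDefEq.respectTransparency.types false

namespace Groth.Agent.GerbAbs.Chart

open Groth.Agent.FC16 hiding overMap
open Groth.Agent.StAlg Groth.Agent.StAlg16 AlgSt

variable {S : Scheme.{u}} {𝒳 𝒴 : AlgSt.Cat S} {g : 𝒳 ⥤ᵇ 𝒴}

theorem triple_of_with (h𝒳 : IsAlgStack Scheme.fppfPrecoverage 𝒳) (h𝒴 : IsAlgStack Scheme.fppfPrecoverage 𝒴)
    (h₁ : AlgSt.RepByAlgSpWith (AlgSp.LocP @Flat) g)
    (h₂ : AlgSt.RepByAlgSpWith (AlgSp.LocP @LocallyOfFinitePresentation) g)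
    (h₃ : AlgSt.RepByAlgSpWith AlgSp.IsSurjectiveMor g) :
    AlgSt.IsSurjective g ∧ AlgSt.LocQ (AlgSp.LocP @Flat) g ∧
      AlgSt.LocQ (AlgSp.LocP @LocallyOfFinitePresentation) g :=
  ⟨isSurjective_of_with h𝒴.isStack.1 h₃,
    (locQ_iff_with isSmoothLocalST_flat pbP_locP' isLocalOnBase_fppf_locP_flat h𝒳 h𝒴 (repByAlgSp1_of_with h₁)).2 h₁,
    (locQ_iff_with isSmoothLocalST_lfp pbP_locP' isLocalOnBase_fppf_locP_lfp h𝒳 h𝒴 (repByAlgSp1_of_with h₂)).2 h₂⟩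

theorem isAlgStack_inertia (h𝒳 : IsAlgStack Scheme.fppfPrecoverage 𝒳) (h𝒴 : IsAlgStack Scheme.fppfPrecoverage 𝒴)
    (f : 𝒳 ⥤ᵇ 𝒴) : IsAlgStack Scheme.fppfPrecoverage (FibCat.inertia f) := by
  haveI := FC16.isFibered h𝒳.isStack.1
  haveI := FC16.isFibered h𝒴.isStack.1
  have h2 := StAlg.isAlgStack_fp h𝒴.isStack h𝒴.diag h𝒳 h𝒳 f f
  obtain ⟨G, hG, -, -⟩ := exists_inverse (inertiaDiag_isEquivOver f)
  exact StAlg.isAlgStack_of_equiv hG (StAlg.isAlgStack_fp h2.isStack h2.diag h𝒳 h𝒳 _ _)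

variable {f : 𝒳 ⥤ᵇ 𝒴} (h𝒳 : IsAlgStack Scheme.fppfPrecoverage 𝒳) (h𝒴 : IsAlgStack Scheme.fppfPrecoverage 𝒴)
  (hf : Gerb.IsGerbeOver (QuotSh.J Scheme.fppfPrecoverage S) f)

include h𝒳 h𝒴 hf in
theorem diag_triple : AlgSt.IsSurjective (FibCat.diag f) ∧ AlgSt.LocQ (AlgSp.LocP @Flat) (FibCat.diag f) ∧
    AlgSt.LocQ (AlgSp.LocP @LocallyOfFinitePresentation) (FibCat.diag f) :=
  triple_of_with h𝒳 (StAlg.isAlgStack_fp h𝒴.isStack h𝒴.diag h𝒳 h𝒳 f f) (with_diag_flat h𝒳 h𝒴 hf)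
    (with_diag_lfp h𝒳 h𝒴 hf) (with_diag_surjective h𝒳 h𝒴 hf)

include h𝒳 h𝒴 hf in
theorem inertia_triple : AlgSt.IsSurjective (FibCat.inertiaToBase f) ∧
    AlgSt.LocQ (AlgSp.LocP @Flat) (FibCat.inertiaToBase f) ∧
    AlgSt.LocQ (AlgSp.LocP @LocallyOfFinitePresentation) (FibCat.inertiaToBase f) :=
  triple_of_with (isAlgStack_inertia h𝒳 h𝒴 f) h𝒳
    (with_inertiaToBase h𝒳.isStack.1 h𝒴.isStack.1 (with_diag_flat h𝒳 h𝒴 hf))
    (with_inertiaToBase h𝒳.isStack.1 h𝒴.isStack.1 (with_diag_lfp h𝒳 h𝒴 hf))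
    (with_inertiaToBase h𝒳.isStack.1 h𝒴.isStack.1 (with_diag_surjective h𝒳 h𝒴 hf))

end Groth.Agent.GerbAbs.Chart
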