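import Groth.Agent.Lib.GerbAbs16.Basic
import Groth.Agent.Lib.StAlg16.DiagOps
import Groth.Agent.S13022

/-! Flat, locally finitely presented surjections of algebraic stacks are locally essentially surjective. -/

universe u

open CategoryTheory CategoryTheory.Functor CategoryTheory.Limits AlgebraicGeometry Opposite

set_option linter.style.haveILetI false
set_option linter.unusedSectionVars false
set_option backward.isDefEq.respectTransparency false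
set_option backward.isDefEq.respectTransparency.types false

namespace Groth.Agent.GerbAbs.OfCover

open Groth.Agent.FC16 hiding overMap
open Groth.Agent.StAlg Groth.Agent.StAlg16 AlgSt

variable {S : Scheme.{u}} {𝒳 𝒴 : AlgSt.Cat S}

theorem locSurjObj (h𝒳 : IsAlgStack Scheme.fppfPrecoverage 𝒳) (h𝒴 : IsAlgStack Scheme.fppfPrecoverage 𝒴)
    {g : 𝒳 ⥤ᵇ 𝒴} (hg₁ : AlgSt.IsSurjective g) (hg₂ : AlgSt.LocQ (AlgSp.LocP @Flat) g)
    (hg₃ : AlgSt.LocQ (AlgSp.LocP @LocallyOfFinitePresentation) g) :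
    Gerb.LocSurjObj (QuotSh.J Scheme.fppfPrecoverage S) g := by
  intro y
  haveI := isFibered h𝒴.isStack.1
  let x : FibCat.overCat (𝒴.p.obj y) ⥤ᵇ 𝒴 := ofObj rfl
  obtain ⟨ι, V, k, c, hk, hV⟩ := Groth.Agent.S13022.result S 𝒴 h𝒴 PUnit.{u + 1} (fun _ => 𝒳) (fun _ => h𝒳)
    (fun _ => g) (fun _ => hg₂) (fun _ => hg₃) (fun p => ⟨PUnit.unit, hg₁ p⟩) (𝒴.p.obj y) x
  let R : Sieve (𝒴.p.obj y) := Sieve.generate (Presieve.ofArrows V k)
  refine ⟨R, ?_, fun W f hf => ?_⟩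
  · rw [GrothendieckTopology.mem_over_iff]
    refine GrothendieckTopology.superset_covering _ ?_ (Precoverage.generate_mem_toGrothendieck hk)
    rw [Sieve.generate_le_iff]
    rintro _ _ ⟨i⟩
    refine (Sieve.overEquiv_iff _ _).2 ?_
    have e : (Over.homMk (k i).left rfl : Over.mk ((k i).left ≫ (𝒴.p.obj y).hom) ⟶ 𝒴.p.obj y) =
        (Over.homMk (𝟙 _) (by rw [Category.id_comp]; exact (Over.w (k i)).symm) :
          Over.mk ((k i).left ≫ (𝒴.p.obj y).hom) ⟶ V i) ≫ k i :=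
      Over.OverMorphism.ext (Category.id_comp _).symm
    rw [e]
    exact R.downward_closed (Sieve.le_generate _ _ _ (Presieve.ofArrows.mk i)) _
  · obtain ⟨Z, q, _, ⟨i⟩, rfl⟩ := hf
    obtain ⟨x', ⟨e⟩⟩ := hV i
    let x'' : FibCat.overCat W ⥤ᵇ 𝒳 := BasedFunctor.comp (AlgSt.overMap q) x'
    let o : Over W := Over.mk (𝟙 W)
    let j : BasedFunctor.comp x'' g ≅ BasedFunctor.comp (AlgSt.overMap (q ≫ k i)) x :=
      wlIso (AlgSt.overMap q) e ≪≫ wrIso (overMapComp q (k i)) x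
    let m : (AlgSt.overMap (q ≫ k i)).obj o ⟶ Over.mk (𝟙 (𝒴.p.obj y)) :=
      Over.homMk (q ≫ k i) (by show (q ≫ k i) ≫ 𝟙 _ = 𝟙 W ≫ q ≫ k i; simp)
    haveI : (FibCat.overCat (𝒴.p.obj y)).p.IsHomLift (q ≫ k i) m :=
      IsHomLift.map (FibCat.overCat (𝒴.p.obj y)).p m
    haveI : 𝒴.p.IsHomLift (q ≫ k i) (x.map m) := BasedFunctor.preserves_isHomLift x (q ≫ k i) m
    haveI : 𝒴.p.IsHomLift (𝟙 W) (appIso j o).hom := isHomLift_appIso_hom j o rfl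
    haveI := ofObjIso_lift (𝒳 := 𝒴) (x := y) rfl
    refine ⟨x''.obj o, (appIso j o).hom ≫ x.map m ≫ (ofObjIso (𝒳 := 𝒴) (x := y) rfl).hom, ?_⟩
    simpa using (inferInstance : 𝒴.p.IsHomLift (𝟙 W ≫ (q ≫ k i) ≫ 𝟙 _)
      ((appIso j o).hom ≫ x.map m ≫ (ofObjIso (𝒳 := 𝒴) (x := y) rfl).hom))

/-- Flat, locally finitely presented surjective diagonal: morphisms lift locally. -/
theorem locSurjHom (h𝒳 : IsAlgStack Scheme.fppfPrecoverage 𝒳) (h𝒴 : IsAlgStack Scheme.fppfPrecoverage 𝒴)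
    {f : 𝒳 ⥤ᵇ 𝒴} (hg₁ : AlgSt.IsSurjective (FibCat.diag f))
    (hg₂ : AlgSt.LocQ (AlgSp.LocP @Flat) (FibCat.diag f))
    (hg₃ : AlgSt.LocQ (AlgSp.LocP @LocallyOfFinitePresentation) (FibCat.diag f)) :
    Gerb.LocSurjHom (QuotSh.J Scheme.fppfPrecoverage S) f := by
  have hD := locSurjObj h𝒳 (StAlg.isAlgStack_fp h𝒴.isStack h𝒴.diag h𝒳 h𝒳 f f) hg₁ hg₂ hg₃
  intro x x' b hb
  haveI := hb
  haveI : IsIso b := isIso_of_isHomLift h𝒴.isStack.1 (𝟙 (𝒳.p.obj x)) b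
  obtain ⟨R, hR, h⟩ := hD (fpObj x x' (asIso b) rfl hb)
  refine ⟨R, hR, fun V k hk => ?_⟩
  obtain ⟨x₀, m, hm⟩ := h k hk
  haveI := hm
  refine ⟨x₀, m.hom.fst, m.hom.snd, BasedFunctor.preserves_isHomLift (FibCat.fpFst f f) k m,
    BasedFunctor.preserves_isHomLift (FibCat.fpSnd f f) k m, ?_⟩
  exact (fp_w m).trans (Category.id_comp _)

theorem isGerbeOver (h𝒳 : IsAlgStack Scheme.fppfPrecoverage 𝒳) (h𝒴 : IsAlgStack Scheme.fppfPrecoverage 𝒴)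
    {f : 𝒳 ⥤ᵇ 𝒴} (hf₁ : AlgSt.IsSurjective f) (hf₂ : AlgSt.LocQ (AlgSp.LocP @Flat) f)
    (hf₃ : AlgSt.LocQ (AlgSp.LocP @LocallyOfFinitePresentation) f) (hg₁ : AlgSt.IsSurjective (FibCat.diag f))
    (hg₂ : AlgSt.LocQ (AlgSp.LocP @Flat) (FibCat.diag f))
    (hg₃ : AlgSt.LocQ (AlgSp.LocP @LocallyOfFinitePresentation) (FibCat.diag f)) :
    Gerb.IsGerbeOver (QuotSh.J Scheme.fppfPrecoverage S) f :=
  ⟨locSurjObj h𝒳 h𝒴 hf₁ hf₂ hf₃, locSurjHom h𝒳 h𝒴 hg₁ hg₂ hg₃⟩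

end Groth.Agent.GerbAbs.OfCover
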