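import Groth.Agent.Lib.GerbAbs16.DiagFlat
import Groth.Agent.Lib.AlgSpDescent.SrcInstances

/-! The three properties of diagonals of gerbes. -/

universe u

open CategoryTheory CategoryTheory.Functor CategoryTheory.Limits AlgebraicGeometry Opposite

set_option linter.style.haveILetI false
set_option linter.unusedSectionVars false
set_option backward.isDefEq.respectTransparency false
set_option backward.isDefEq.respectTransparency.types false

namespace Groth.Agent.GerbAbs.Chart

open Groth.Agent.FC16 hiding overMap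
open Groth.Agent.StAlg Groth.Agent.StAlg16 AlgSt

variable {S : Scheme.{u}} {𝒳 : AlgSt.Cat S}

theorem isFppfCover_single {X Y : AlgSp.Sp S} {b : X ⟶ Y}
    (hb : ∀ k, ![AlgSp.LocP @Flat, AlgSp.LocP @LocallyOfFinitePresentation, AlgSp.IsSurjectiveMor] k b) :
    AlgSp.IsFppfCover (fun _ : PUnit.{u + 1} => X) fun _ => b :=
  ⟨fun _ => ⟨hb 0, hb 1⟩, fun y => by
    obtain ⟨x, hx⟩ := hb 2 y
    exact ⟨PUnit.unit, x, hx⟩⟩

theorem pbP_locP' {R : MorphismProperty Scheme.{u}} [AlgSpace.EtaleLocal R] : PbP (AlgSp.LocP (S := S) R) :=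
  fun _ _ _ _ h₁ h₂ _ h₄ _ _ _ _ sq h => AlgSpace.locP_of_isPullback h₁ h₂ h₄ sq h

theorem isLocalOnBase_fppf_surjective : AlgSp.IsLocalOnBase (AlgSp.IsFppfCover (S := S)) AlgSp.IsSurjectiveMor := by
  intro ι Y Yi g _ _ hg X f _ Xi p q _ sq
  refine ⟨fun h i => AlgSpace.surjective_of_isPullback (sq i) h, fun h y => ?_⟩
  obtain ⟨i, yi, rfl⟩ := hg.2 y
  obtain ⟨xi, rfl⟩ := h i yi
  exact ⟨AlgSp.Points.map (q i) xi, by rw [← AlgSp.Points.map_comp, (sq i).w, AlgSp.Points.map_comp]⟩

theorem goodQ_flat : GoodQ (𝒳 := 𝒳) (AlgSp.LocP (S := S) @Flat) where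
  good := goodP_locP
  pb := pbP_locP'
  base := isLocalOnBase_fppf_locP_flat
  source _ _ _ hX hY hZ b a hb h := (AlgSpDescent.isLocalOnSource_fpqc_flat _ _ hY (fun _ => hX)
    (AlgSpDescent.isFpqcCover_of_isFppfCover hY (fun _ => hX) (isFppfCover_single hb)) a hZ).2 fun _ => h
  overMap k h _ _ := with_locP_overMap k h
  chart h _ := with_locP_mono smooth_le_flat h

theorem goodQ_lfp : GoodQ (𝒳 := 𝒳) (AlgSp.LocP (S := S) @LocallyOfFinitePresentation) where
  good := goodP_locP
  pb := pbP_locP'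
  base := isLocalOnBase_fppf_locP_lfp
  source _ _ _ hX hY hZ b a hb h := (AlgSpDescent.isLocalOnSource_fppf_lfp _ _ hY (fun _ => hX)
    (isFppfCover_single hb) a hZ).2 fun _ => h
  overMap k _ h _ := with_locP_overMap k h
  chart h _ := with_locP_mono smooth_le_lfp h

theorem goodQ_surjective : GoodQ (𝒳 := 𝒳) (AlgSp.IsSurjectiveMor (S := S)) where
  good := goodP_surjective
  pb _ _ _ _ _ _ _ _ _ _ _ _ sq h := AlgSpace.surjective_of_isPullback sq h
  base := isLocalOnBase_fppf_surjective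
  source _ _ _ _ _ _ b a _ h z := by
    obtain ⟨x, rfl⟩ := h z
    exact ⟨AlgSp.Points.map b x, (AlgSp.Points.map_comp b a x).symm⟩
  overMap k _ _ h := with_surjective_overMap k h
  chart _ h := h

end Groth.Agent.GerbAbs.Chart
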