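import Groth.Agent.Lib.GerbAbs16.SmoothChart
import Groth.Agent.Lib.StAlg16.LocQApps

/-! Gerbes between algebraic stacks: smoothness, surjectivity and the diagonal. -/

universe u

open CategoryTheory CategoryTheory.Functor CategoryTheory.Limits AlgebraicGeometry Opposite

set_option linter.style.haveILetI false
set_option linter.unusedSectionVars false
set_option backward.isDefEq.respectTransparency false
set_option backward.isDefEq.respectTransparency.types false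

namespace Groth.Agent.GerbAbs.Chart

open Groth.Agent.FC16 hiding overMap
open Groth.Agent.StAlg Groth.Agent.StAlg16 AlgSt

variable {S : Scheme.{u}} {𝒳 𝒴 : AlgSt.Cat S}


variable (h𝒳 : IsAlgStack Scheme.fppfPrecoverage 𝒳) (h𝒴 : IsAlgStack Scheme.fppfPrecoverage 𝒴)
  {f : 𝒳 ⥤ᵇ 𝒴} (hf : Gerb.IsGerbeOver (QuotSh.J Scheme.fppfPrecoverage S) f)

include h𝒳 h𝒴 hf in
/-- A good chart of a gerbe. -/
theorem exists_gerbe_chart : ∃ (U V : Over S) (y : FibCat.overCat V ⥤ᵇ 𝒴) (h : U ⟶ V)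
    (c : FibCat.overCat U ⥤ᵇ FibCat.fp y f),
    Nonempty (BasedFunctor.comp c (FibCat.fpFst y f) ≅ AlgSt.overMap h) ∧
      AlgSt.RepByAlgSpWith (AlgSp.LocP @Smooth) y ∧ AlgSt.RepByAlgSpWith AlgSp.IsSurjectiveMor y ∧
      AlgSt.RepByAlgSpWith (AlgSp.LocP @Smooth) c ∧ AlgSt.RepByAlgSpWith AlgSp.IsSurjectiveMor c ∧
      Smooth h.left ∧ Surjective h.left := by
  obtain ⟨V, y, hy, hys⟩ := h𝒴.atlas
  obtain ⟨U, h, c, ⟨j⟩, hc, hcs⟩ := exists_good h𝒳 h𝒴 f y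
  have hπ := GerbAbs.isGerbeOver_fpFst (overCat_isFibGrpd V) h𝒴.isStack.1 y hf
  have hA := StAlg.isAlgStack_fp h𝒴.isStack h𝒴.diag (isAlgStack_overCat V) h𝒳 y f
  exact ⟨U, V, y, h, c, ⟨j⟩, hy, hys, hc, hcs, smooth_chart hA hπ hc j, (flat_lfp_surjective hA hπ hc hcs j).2.2⟩

include h𝒳 h𝒴 hf in
/-- A property of smooth surjective morphisms holds for gerbes. -/
theorem locQ_of_gerbe {P : MorphismProperty (AlgSp.Sp S)}
    (hP : ∀ {U V : Over S} (h : U ⟶ V), Smooth h.left → Surjective h.left → P ((AlgSp.yon S).map h)) :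
    AlgSt.LocQ P f := by
  obtain ⟨U, V, y, h, c, ⟨j⟩, hy, hys, hc, hcs, h₁, h₂⟩ := exists_gerbe_chart h𝒳 h𝒴 hf
  exact locQ_of_good h𝒳.isStack.1 h𝒴.isStack.1 hy hys j hc hcs (hP h h₁ h₂)

include h𝒳 h𝒴 hf in
theorem locQ_smooth : AlgSt.LocQ (AlgSp.LocP @Smooth) f :=
  locQ_of_gerbe h𝒳 h𝒴 hf fun h h₁ _ => (locP_yon_iff h).2 h₁

include h𝒳 h𝒴 hf in
theorem locQ_flat : AlgSt.LocQ (AlgSp.LocP @Flat) f :=
  locQ_of_gerbe h𝒳 h𝒴 hf fun h h₁ _ => (locP_yon_iff h).2 inferInstance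

include h𝒳 h𝒴 hf in
theorem locQ_lfp : AlgSt.LocQ (AlgSp.LocP @LocallyOfFinitePresentation) f :=
  locQ_of_gerbe h𝒳 h𝒴 hf fun h h₁ _ => (locP_yon_iff h).2 inferInstance

include h𝒳 h𝒴 hf in
theorem isSurjective : AlgSt.IsSurjective f := by
  obtain ⟨U, V, y, h, c, ⟨j⟩, -, hys, -, -, -, h₂⟩ := exists_gerbe_chart h𝒳 h𝒴 hf
  intro q
  obtain ⟨o, rfl⟩ := isSurjective_of_with h𝒴.isStack.1 hys q
  obtain ⟨t, ht⟩ := h₂.surj (ptOf o)
  refine ⟨Points.map (BasedFunctor.comp c (FibCat.fpSnd y f)) (Points.mk (chartPt U t)), ?_⟩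
  have e : Points.map (AlgSt.overMap h) (Points.mk (chartPt U t)) = o := by
    rw [← mk_chartPt_ptOf (Points.map (AlgSt.overMap h) _), ptOf_map_overMap, ptOf_chartPt, ht, mk_chartPt_ptOf]
  rw [← map_comp_apply, map_eq_map_of_iso (squareIso j), map_comp_apply, e]

include h𝒳 h𝒴 hf in
/-- The diagonal of a gerbe. -/
theorem with_diag_gerbe {Q : MorphismProperty (AlgSp.Sp S)}
    (hQ : ∀ {𝒵 : AlgSt.Cat S}, GoodQ (𝒳 := 𝒵) Q) : AlgSt.RepByAlgSpWith Q (FibCat.diag f) := by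
  obtain ⟨V, y, hy, hys⟩ := h𝒴.atlas
  have hπ := GerbAbs.isGerbeOver_fpFst (overCat_isFibGrpd V) h𝒴.isStack.1 y hf
  have hA := StAlg.isAlgStack_fp h𝒴.isStack h𝒴.diag (isAlgStack_overCat V) h𝒳 y f
  exact with_diag_of_fpFst_cover (hQ (𝒵 := 𝒳)).pb (hQ (𝒵 := 𝒳)).base h𝒳.isStack.1 h𝒴.isStack.1
    (overCat_isFibGrpd V) (StAlg.rep1_diag h𝒳 h𝒴 f) (with_locP_mono smooth_le_flat hy)
    (with_locP_mono smooth_le_lfp hy) hys (with_diag hA hπ hQ)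

include h𝒳 h𝒴 hf in
theorem with_diag_flat : AlgSt.RepByAlgSpWith (AlgSp.LocP @Flat) (FibCat.diag f) :=
  with_diag_gerbe h𝒳 h𝒴 hf goodQ_flat

include h𝒳 h𝒴 hf in
theorem with_diag_lfp : AlgSt.RepByAlgSpWith (AlgSp.LocP @LocallyOfFinitePresentation) (FibCat.diag f) :=
  with_diag_gerbe h𝒳 h𝒴 hf goodQ_lfp

include h𝒳 h𝒴 hf in
theorem with_diag_surjective : AlgSt.RepByAlgSpWith AlgSp.IsSurjectiveMor (FibCat.diag f) :=
  with_diag_gerbe h𝒳 h𝒴 hf goodQ_surjective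

end Groth.Agent.GerbAbs.Chart
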