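import Groth.Agent.Lib.GerbAbs16.Basic
import Groth.Agent.Lib.FC16.Descent

/-! A fully faithful, locally essentially surjective morphism from a stack to a prestack is an equivalence. -/

universe v₃ u₃ v₂ u₂ v u

open CategoryTheory CategoryTheory.Functor

set_option autoImplicit false
set_option linter.style.haveILetI false
set_option linter.unusedSimpArgs false
set_option backward.isDefEq.respectTransparency false
set_option backward.isDefEq.respectTransparency.types false

namespace Groth.Agent.GerbAbs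

open Groth.Agent.FC16

variable {C : Type u} [Category.{v} C] {J : GrothendieckTopology C}
  {𝒳 : BasedCategory.{v₂, u₂} C} {𝒴 : BasedCategory.{v₃, u₃} C}

theorem essSurjOver_of_locally (hX : Stk.IsStack J 𝒳) (hY : Stk.IsPrestack J 𝒴) (F : 𝒳 ⥤ᵇ 𝒴)
    [F.toFunctor.Full] [F.toFunctor.Faithful] (hloc : Gerb.LocSurjObj J F) : FC16.EssSurjOver F := by
  intro y
  haveI := FC16.isFibered hY.1
  obtain ⟨R, hR, hR'⟩ := hloc y
  haveI : (Stk.resSieve R 𝒳).IsEquivalence := hX.2 R hR
  haveI := (hY.2 R hR).1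
  haveI := (hY.2 R hR).2
  let t := ofObj (x := y) (U := 𝒴.p.obj y) rfl
  let ti := (Stk.resSieve R 𝒴).obj t
  have hx : ∀ a : (Stk.sieveCat R).obj, ∃ (x : 𝒳.obj) (e : F.obj x ≅ t.obj a.obj),
      𝒴.p.IsHomLift (𝟙 a.obj.left) e.hom := by
    intro a
    obtain ⟨x, g, hg⟩ := hR' a.obj.hom a.property
    haveI := hg
    haveI := ofObjIso_lift (𝒳 := 𝒴) (x := y) (U := 𝒴.p.obj y) rfl
    haveI : 𝒴.p.IsHomLift a.obj.hom (t.map (toTerm a.obj) ≫ (ofObjIso (x := y) rfl).hom) :=
      IsHomLift.comp_lift_id_right' (p := 𝒴.p) a.obj.hom _ (𝒴.p.obj y) _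
    obtain ⟨e, he, -⟩ := exists_iso_of_lifts hY.1 a.obj.hom g (t.map (toTerm a.obj) ≫ (ofObjIso (x := y) rfl).hom)
    exact ⟨x, e, he⟩
  choose x e he using hx
  have he' : ∀ a, 𝒴.p.IsHomLift (𝟙 ((Stk.sieveCat R).p.obj a)) (e a).symm.hom := fun a => by
    haveI := he a
    exact inferInstanceAs (𝒴.p.IsHomLift (𝟙 a.obj.left) (e a).inv)
  let d' := conjFunctor ti (q := fun a => F.obj (x a)) (fun a => (e a).symm) he'
  let d : Stk.sieveCat R ⥤ᵇ 𝒳 :=
    { toFunctor :=
        { obj := x
          map := fun g => F.toFunctor.preimage (d'.map g)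
          map_id := fun a => F.toFunctor.map_injective (by
            rw [Functor.map_preimage]; exact (d'.toFunctor.map_id a).trans (F.toFunctor.map_id (x a)).symm)
          map_comp := fun g g' => F.toFunctor.map_injective (by
            rw [Functor.map_preimage]
            refine (d'.toFunctor.map_comp g g').trans ?_
            rw [F.toFunctor.map_comp, Functor.map_preimage, Functor.map_preimage]) }
      w := by
        refine CategoryTheory.Functor.ext (fun a => ?_) (fun a b g => ?_)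
        · exact (F.w_obj (x a)).symm.trans (d'.w_obj a)
        · haveI : 𝒴.p.IsHomLift ((Stk.sieveCat R).p.map g) (F.map (F.toFunctor.preimage (d'.map g))) := by
            rw [Functor.map_preimage]
            exact BasedFunctor.preserves_isHomLift d' _ g
          haveI := BasedFunctor.isHomLift_map F ((Stk.sieveCat R).p.map g) (F.toFunctor.preimage (d'.map g))
          exact IsHomLift.fac' 𝒳.p ((Stk.sieveCat R).p.map g) (F.toFunctor.preimage (d'.map g)) }
  let i₁ : BasedFunctor.comp d F ≅ ti :=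
    BasedNatIso.mkNatIso (F := BasedFunctor.comp d F) (G := d') (NatIso.ofComponents (fun a => Iso.refl (F.obj (x a))) (fun {a b} g => by
      change F.map (F.toFunctor.preimage (d'.map g)) ≫ 𝟙 _ = 𝟙 _ ≫ d'.map g
      rw [Functor.map_preimage, Category.comp_id, Category.id_comp]))
      (fun a => IsHomLift.id (d'.w_obj a)) ≪≫ (conjIso ti (fun a => (e a).symm) he').symm
  let X := (Stk.resSieve R 𝒳).objPreimage d
  let i₂ : (Stk.resSieve R 𝒴).obj (BasedFunctor.comp X F) ≅ (Stk.resSieve R 𝒴).obj t :=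
    (postFun (Stk.sieveCat R) F).mapIso ((Stk.resSieve R 𝒳).objObjPreimageIso d) ≪≫ i₁
  let i := (Stk.resSieve R 𝒴).preimageIso i₂
  haveI := isHomLift_appIso_hom i (Over.mk (𝟙 (𝒴.p.obj y))) (U := 𝒴.p.obj y) rfl
  haveI := ofObjIso_lift (𝒳 := 𝒴) (x := y) (U := 𝒴.p.obj y) rfl
  exact ⟨X.obj (Over.mk (𝟙 _)), appIso i (Over.mk (𝟙 _)) ≪≫ ofObjIso rfl,
    inferInstanceAs (𝒴.p.IsHomLift (𝟙 (𝒴.p.obj y))
      ((appIso i (Over.mk (𝟙 _))).hom ≫ (ofObjIso (x := y) rfl).hom))⟩

end Groth.Agent.GerbAbs
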