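import Groth.Agent.Lib.GerbAbs16.Basic
import Groth.Agent.Lib.StAlg16.GoodSquares
import Groth.Agent.Lib.AlgSpDescent.FppfComp
import Groth.Agent.Lib.AlgSpace.Glue
import Groth.Agent.Lib.Quot16.Local
import Groth.Agent.Lib.StAlg16.LocPInst

/-! Charts of gerbes over schemes: local isomorphisms and flatness of charts. -/

universe u

open CategoryTheory CategoryTheory.Functor CategoryTheory.Limits AlgebraicGeometry Opposite

set_option linter.style.haveILetI false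
set_option linter.unusedSectionVars false
set_option backward.isDefEq.respectTransparency false
set_option backward.isDefEq.respectTransparency.types false

namespace Groth.Agent.GerbAbs.Chart

open Groth.Agent.FC16 hiding overMap
open Groth.Agent.StAlg Groth.Agent.StAlg16 AlgSt

variable {S : Scheme.{u}} {𝒳 𝒴 : AlgSt.Cat S}

local notation "Jf" => QuotSh.J Scheme.fppfPrecoverage S

/-- functors from a slice are isomorphic as soon as their values at the identity are -/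
theorem exists_functor_iso (hX : FibCat.IsFibGrpd 𝒳.p) {T : Over S} (Φ Ψ : FibCat.overCat T ⥤ᵇ 𝒳)
    (e : Φ.obj (Over.mk (𝟙 T)) ≅ Ψ.obj (Over.mk (𝟙 T))) (he : 𝒳.p.IsHomLift (𝟙 T) e.hom) :
    Nonempty (Φ ≅ Ψ) :=
  ⟨(exists_iso (presCart_of_isFibGrpd hX Φ) (presCart_of_isFibGrpd hX Ψ) e he).choose⟩

/-- objects with isomorphic images are locally isomorphic -/
theorem exists_local_iso (hX : FibCat.IsFibGrpd 𝒳.p) {F : 𝒳 ⥤ᵇ 𝒴} (hF : Gerb.LocSurjHom Jf F) {T : Over S}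
    (A B : FibCat.overCat T ⥤ᵇ 𝒳) (i : BasedFunctor.comp A F ≅ BasedFunctor.comp B F) :
    ∃ R ∈ Jf T, ∀ ⦃T' : Over S⦄ (f : T' ⟶ T), R f →
      Nonempty (BasedFunctor.comp (AlgSt.overMap f) A ≅ BasedFunctor.comp (AlgSt.overMap f) B) := by
  let o : Over T := Over.mk (𝟙 T)
  obtain ⟨R, hR, h⟩ := locSurjHom_at Jf hF (A.obj o) (B.obj o) (appIso i o).hom (A.w_obj o)
    (isHomLift_appIso_hom i o rfl)
  refine ⟨R, hR, fun T' f hf => ?_⟩
  obtain ⟨x₀, φ, ψ, hφ, hψ, -⟩ := h f hf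
  let o' : Over T := (AlgSt.overMap f).obj (Over.mk (𝟙 T'))
  let m : o' ⟶ o := Over.homMk f (by show f ≫ 𝟙 T = 𝟙 T' ≫ f; simp)
  haveI hm : (FibCat.overCat T).p.IsHomLift f m := IsHomLift.map (FibCat.overCat T).p m
  haveI hA : 𝒳.p.IsHomLift f (A.map m) := BasedFunctor.preserves_isHomLift A f m
  haveI hB : 𝒳.p.IsHomLift f (B.map m) := BasedFunctor.preserves_isHomLift B f m
  haveI := hφ
  haveI := hψ
  obtain ⟨e₁, he₁, -⟩ := exists_iso_of_lifts hX f φ (A.map m)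
  obtain ⟨e₂, he₂, -⟩ := exists_iso_of_lifts hX f ψ (B.map m)
  haveI := he₁
  haveI := he₂
  exact exists_functor_iso hX _ _ (e₁.symm ≪≫ e₂)
    (inferInstanceAs (𝒳.p.IsHomLift (𝟙 T') (e₁.inv ≫ e₂.hom)))

/-- a flat, locally finitely presented surjection generates a covering sieve -/
theorem mem_of_cover {T T' : Over S} (k : T' ⟶ T) [Flat k.left] [LocallyOfFinitePresentation k.left]
    [Surjective k.left] {R : Sieve T} (h : R k) : R ∈ Jf T := by
  rw [GrothendieckTopology.mem_over_iff]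
  refine GrothendieckTopology.superset_covering _ ?_
    (Precoverage.generate_mem_toGrothendieck (R := Presieve.singleton k.left) ?_)
  · rw [Sieve.generate_le_iff]
    rintro _ _ ⟨⟩
    refine (Sieve.overEquiv_iff _ _).2 ?_
    have e : (Over.homMk k.left rfl : Over.mk (k.left ≫ T.hom) ⟶ T) =
        (Over.homMk (𝟙 _) (by rw [Category.id_comp]; exact (Over.w k).symm) : Over.mk (k.left ≫ T.hom) ⟶ T') ≫ k :=
      Over.OverMorphism.ext (Category.id_comp _).symm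
    rw [e]
    exact R.downward_closed h _
  · rw [Scheme.fppfPrecoverage, Scheme.singleton_mem_precoverage_iff]
    exact ⟨(inferInstance : Surjective k.left).surj, inferInstance, inferInstance⟩

/-- a single lift along a flat locally finitely presented surjective representable functor -/
theorem exists_lift_cover {𝒵 : AlgSt.Cat S} (h𝒴 : FibCat.IsFibGrpd 𝒴.p) (h𝒵 : FibCat.IsFibGrpd 𝒵.p)
    {z : 𝒵 ⥤ᵇ 𝒴} (hz : AlgSt.RepByAlgSpWith (AlgSp.LocP @Smooth) z)
    (hzs : AlgSt.RepByAlgSpWith AlgSp.IsSurjectiveMor z) {T : Over S} (y : FibCat.overCat T ⥤ᵇ 𝒴) :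
    ∃ (T' : Over S) (k : T' ⟶ T) (m : FibCat.overCat T' ⥤ᵇ 𝒵), Flat k.left ∧ LocallyOfFinitePresentation k.left ∧
      Surjective k.left ∧ Nonempty (BasedFunctor.comp (AlgSt.overMap k) y ≅ BasedFunctor.comp m z) := by
  obtain ⟨T', k, m, hc, hi⟩ := exists_cover_lift h𝒴 h𝒵 (with_locP_mono smooth_le_flat hz)
    (with_locP_mono smooth_le_lfp hz) hzs T y
  have hT := AlgSp.IsAlgSpace.yon_obj T
  refine ⟨T', k, m, (locP_yon_iff k).1 (hc.1 PUnit.unit).1, (locP_yon_iff k).1 (hc.1 PUnit.unit).2, ⟨fun t => ?_⟩, hi⟩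
  obtain ⟨⟨⟩, p, hp⟩ := hc.2 (AlgSp.Points.schemeHomeo T t)
  obtain ⟨s, rfl⟩ := (AlgSp.Points.schemeHomeo T').surjective p
  exact ⟨s, (AlgSp.Points.schemeHomeo T).injective ((AlgSp.Points.map_yon_map_apply k s).symm.trans hp)⟩

variable {V : Over S}

/-- Over a gerbe, `U ×_𝒳 W ⟶ U ×_V W` is locally surjective. -/
theorem exists_pair_chart (h𝒳 : IsAlgStack Scheme.fppfPrecoverage 𝒳) {π : 𝒳 ⥤ᵇ FibCat.overCat V}
    (hπ : Gerb.LocSurjHom Jf π) {U W : Over S} {u : FibCat.overCat U ⥤ᵇ 𝒳}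
    (hu : AlgSt.RepByAlgSpWith (AlgSp.LocP @Smooth) u) (hus : AlgSt.RepByAlgSpWith AlgSp.IsSurjectiveMor u)
    {h : U ⟶ V} (j : BasedFunctor.comp u π ≅ AlgSt.overMap h)
    (x : FibCat.overCat W ⥤ᵇ 𝒳) {v : W ⟶ V} (jx : BasedFunctor.comp x π ≅ AlgSt.overMap v) :
    ∃ (M : Over S) (g : M ⟶ pullback h v), Smooth (g ≫ pullback.snd h v).left ∧
      Surjective (g ≫ pullback.snd h v).left ∧ Sheaf.IsLocallySurjective ((AlgSp.yon S).map g) ∧
      Nonempty (BasedFunctor.comp (AlgSt.overMap (g ≫ pullback.snd h v)) x ≅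
        BasedFunctor.comp (AlgSt.overMap (g ≫ pullback.fst h v)) u) := by
  have gX := h𝒳.isStack.1
  have hfp := fp_isFibGrpd (overCat_isFibGrpd W) (overCat_isFibGrpd U) gX x u
  obtain ⟨M, c, hc, hcs⟩ := (StAlg.isAlgStack_fp h𝒳.isStack h𝒳.diag (isAlgStack_overCat W) (isAlgStack_overCat U) x u).atlas
  obtain ⟨a, ⟨ia⟩⟩ := exists_overMap_iso (BasedFunctor.comp c (FibCat.fpFst x u))
  obtain ⟨b, ⟨ib⟩⟩ := exists_overMap_iso (BasedFunctor.comp c (FibCat.fpSnd x u))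
  have hw : b ≫ h = a ≫ v := eq_of_overMap_iso
    ((overMapComp b h).symm ≪≫ wrIso ib.symm (AlgSt.overMap h) ≪≫ wlIso (BasedFunctor.comp c (FibCat.fpSnd x u)) j.symm ≪≫
      wrIso (wlIso c (FibCat.fpIso x u).symm) π ≪≫ wlIso (BasedFunctor.comp c (FibCat.fpFst x u)) jx ≪≫
      wrIso ia (AlgSt.overMap v) ≪≫ overMapComp a v)
  let g : M ⟶ pullback h v := pullback.lift b a hw
  have hga : g ≫ pullback.snd h v = a := pullback.lift_snd _ _ _
  refine ⟨M, g, ?_, ?_, ?_, ?_⟩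
  · rw [hga]
    exact of_with_locP_overMap a (with_of_iso ia (with_comp goodP_locP (overCat_isFibGrpd M) hfp hc (with_fpFst x hu)))
  · rw [hga]
    have ha := surjective_ofChart (overCat_isFibGrpd W)
      (with_of_iso ia (with_comp goodP_surjective (overCat_isFibGrpd M) hfp hcs (with_fpFst x hus)))
    refine ⟨fun w => ?_⟩
    obtain ⟨m, hm⟩ := ha (Points.mk (chartPt W w))
    refine ⟨m, ?_⟩
    rw [ofChart_eq] at hm
    have h1 := congrArg ptOf hm
    rwa [ptOf_map_overMap, ptOf_chartPt, ptOf_chartPt] at h1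
  · refine ⟨fun {T} s => ?_⟩
    let t : T ⟶ U := s.down ≫ pullback.fst h v
    let w : T ⟶ W := s.down ≫ pullback.snd h v
    have htw : t ≫ h = w ≫ v := by simp only [t, w, Category.assoc, pullback.condition]
    obtain ⟨R, hR, hR'⟩ := exists_local_iso gX hπ (BasedFunctor.comp (AlgSt.overMap w) x)
      (BasedFunctor.comp (AlgSt.overMap t) u)
      (wlIso (AlgSt.overMap w) jx ≪≫ overMapComp w v ≪≫ eqToIso (congrArg AlgSt.overMap htw.symm) ≪≫
        (overMapComp t h).symm ≪≫ wlIso (AlgSt.overMap t) j.symm)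
    refine (Jf).transitive hR _ fun T' f hf => ?_
    obtain ⟨i⟩ := hR' f hf
    let ζ : FibCat.overCat T' ⥤ᵇ FibCat.fp x u :=
      FibCat.fpLift (AlgSt.overMap (f ≫ w)) (AlgSt.overMap (f ≫ t))
        (wrIso (overMapComp f w).symm x ≪≫ i ≪≫ wrIso (overMapComp f t) u)
    obtain ⟨T'', k, m, hk₁, hk₂, hk₃, ⟨ik⟩⟩ := exists_lift_cover hfp (overCat_isFibGrpd M) hc hcs ζ
    obtain ⟨μ, ⟨iμ⟩⟩ := exists_overMap_iso m
    haveI := hk₁; haveI := hk₂; haveI := hk₃
    refine mem_of_cover k ⟨⟨μ⟩, ?_⟩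
    have e₁ : μ ≫ a = k ≫ f ≫ w := eq_of_overMap_iso
      ((overMapComp μ a).symm ≪≫ wlIso (AlgSt.overMap μ) ia.symm ≪≫ wrIso iμ.symm (BasedFunctor.comp c (FibCat.fpFst x u)) ≪≫
        wrIso ik.symm (FibCat.fpFst x u) ≪≫ overMapComp k (f ≫ w))
    have e₂ : μ ≫ b = k ≫ f ≫ t := eq_of_overMap_iso
      ((overMapComp μ b).symm ≪≫ wlIso (AlgSt.overMap μ) ib.symm ≪≫ wrIso iμ.symm (BasedFunctor.comp c (FibCat.fpSnd x u)) ≪≫
        wrIso ik.symm (FibCat.fpSnd x u) ≪≫ overMapComp k (f ≫ t))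
    refine ULift.ext _ _ ?_
    show μ ≫ g = (k ≫ f) ≫ s.down
    apply pullback.hom_ext
    · simp only [g, Category.assoc, pullback.lift_fst]
      exact e₂
    · simp only [g, Category.assoc, pullback.lift_snd]
      exact e₁

  · rw [hga, show g ≫ pullback.fst h v = b from pullback.lift_fst _ _ _]
    exact ⟨wrIso ia.symm x ≪≫ wlIso c (FibCat.fpIso x u) ≪≫ wrIso ib u⟩

/-- A surjective morphism of schemes is surjective as a functor. -/
theorem with_surjective_overMap {A B : Over S} (k : A ⟶ B) (hk : Surjective k.left) :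
    AlgSt.RepByAlgSpWith AlgSp.IsSurjectiveMor (AlgSt.overMap k) := by
  have hA := AlgSp.IsAlgSpace.yon_obj A
  have hB := AlgSp.IsAlgSpace.yon_obj B
  refine (with_congr (f := AlgSt.overMap k) (a := AlgSt.toOverCat A) (b := AlgSt.toOverCat B)
    (toOverCat_isEquivOver A) (toOverCat_isEquivOver B) (overMapIso k)).2 (with_ofPshMap (repBySpWith_of_space
      (fun _ _ _ _ _ _ _ _ _ _ _ _ sq h => AlgSpace.surjective_of_isPullback sq h) hA hB fun p => ?_))
  obtain ⟨t, rfl⟩ := (AlgSp.Points.schemeHomeo B).surjective p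
  obtain ⟨s, rfl⟩ := hk.surj t
  exact ⟨AlgSp.Points.schemeHomeo A s, AlgSp.Points.map_yon_map_apply k s⟩

/-- Flat and locally finitely presented properties of a chart over a lift. -/
theorem of_lift (h𝒳 : IsAlgStack Scheme.fppfPrecoverage 𝒳) {π : 𝒳 ⥤ᵇ FibCat.overCat V}
    (hπ : Gerb.LocSurjHom Jf π) {U W : Over S} {u : FibCat.overCat U ⥤ᵇ 𝒳}
    (hu : AlgSt.RepByAlgSpWith (AlgSp.LocP @Smooth) u) (hus : AlgSt.RepByAlgSpWith AlgSp.IsSurjectiveMor u)
    {h : U ⟶ V} (j : BasedFunctor.comp u π ≅ AlgSt.overMap h)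
    (x : FibCat.overCat W ⥤ᵇ 𝒳) {v : W ⟶ V} (jx : BasedFunctor.comp x π ≅ AlgSt.overMap v) :
    Flat (pullback.snd h v).left ∧ LocallyOfFinitePresentation (pullback.snd h v).left ∧
      Surjective (pullback.snd h v).left := by
  obtain ⟨M, g, hsm, hsu, hls, -⟩ := exists_pair_chart h𝒳 hπ hu hus j x jx
  haveI := hls
  haveI := hsm
  have hM := AlgSp.IsAlgSpace.yon_obj M
  have hP := AlgSp.IsAlgSpace.yon_obj (pullback h v)
  have hW := AlgSp.IsAlgSpace.yon_obj W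
  have key : ∀ {P : MorphismProperty Scheme.{u}} [AlgSpace.EtaleLocal P],
      P (g ≫ pullback.snd h v).left →
      AlgSp.LocP P ((AlgSp.yon S).map g ≫ (AlgSp.yon S).map (pullback.snd h v)) := fun hk => by
    rw [← Functor.map_comp]
    exact (locP_yon_iff _).2 hk
  refine ⟨(locP_yon_iff _).1 ?_, (locP_yon_iff _).1 ?_, ⟨fun w => ?_⟩⟩
  · exact AlgSpDescent.locP_of_comp_isLocallySurjective (P := @Flat)
      (fun _ _ a h₁ _ => h₁) (fun _ _ _ c s f e h => AlgSpDescent.flat_of_retract c s f e h)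
      (fun _ _ _ a b h₁ _ h₃ h => have := h₁; have := h₃; have := h; AlgSpDescent.flat_of_comp_flat_surjective a b) hM hP hW _ _
      (key (P := @Flat) inferInstance)
  · exact AlgSpDescent.locP_of_comp_isLocallySurjective (P := @LocallyOfFinitePresentation)
      (fun _ _ a _ h₂ => h₂) (fun _ _ _ c s f e h => AlgSpDescent.locallyOfFinitePresentation_of_retract c s f e h)
      (fun _ _ _ a b h₁ h₂ h₃ h => have := h₁; have := h₂; have := h₃; have := h
        FppfSource.locallyOfFinitePresentation_of_fppf_comp a b) hM hP hW _ _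
      (key (P := @LocallyOfFinitePresentation) inferInstance)
  · obtain ⟨m, rfl⟩ := hsu.surj w
    exact ⟨g.left m, rfl⟩

/-- Over every scheme a gerbe has sections fppf locally. -/
theorem exists_sections (h𝒳 : FibCat.IsFibGrpd 𝒳.p) {π : 𝒳 ⥤ᵇ FibCat.overCat V} (hπ : Gerb.LocSurjObj Jf π) :
    ∃ R ∈ Jf V, ∀ ⦃W : Over S⦄ (v : W ⟶ V), R v →
      ∃ x : FibCat.overCat W ⥤ᵇ 𝒳, Nonempty (BasedFunctor.comp x π ≅ AlgSt.overMap v) := by
  obtain ⟨R, hR, hR'⟩ := hπ (Over.mk (𝟙 V))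
  refine ⟨R, hR, fun W v hv => ?_⟩
  obtain ⟨x₀, m, hm⟩ := hR' v hv
  haveI := hm
  haveI := isFibered h𝒳
  have hx : 𝒳.p.obj x₀ = W := (π.w_obj x₀).symm.trans (IsHomLift.domain_eq (FibCat.overCat V).p v m)
  let o' : Over V := (AlgSt.overMap v).obj (Over.mk (𝟙 W))
  let n : o' ⟶ Over.mk (𝟙 V) := Over.homMk v (by show v ≫ 𝟙 V = 𝟙 W ≫ v; simp)
  haveI hn : (FibCat.overCat V).p.IsHomLift v n := IsHomLift.map (FibCat.overCat V).p n
  obtain ⟨e, he, -⟩ := exists_iso_of_lifts (overCat_isFibGrpd V) v m n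
  haveI := he
  haveI := ofObjIso_lift hx
  haveI : (FibCat.overCat V).p.IsHomLift (𝟙 W) (π.map (ofObjIso hx).hom) :=
    BasedFunctor.preserves_isHomLift π (𝟙 W) _
  exact ⟨ofObj hx, exists_functor_iso (overCat_isFibGrpd V) _ _ (π.toFunctor.mapIso (ofObjIso hx) ≪≫ e)
    (inferInstanceAs ((FibCat.overCat V).p.IsHomLift (𝟙 W) (π.map (ofObjIso hx).hom ≫ e.hom)))⟩

/-- Charts of a gerbe over a scheme are flat, locally of finite presentation and surjective. -/
theorem flat_lfp_surjective (h𝒳 : IsAlgStack Scheme.fppfPrecoverage 𝒳) {π : 𝒳 ⥤ᵇ FibCat.overCat V}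
    (hπ : Gerb.IsGerbeOver Jf π) {U : Over S} {u : FibCat.overCat U ⥤ᵇ 𝒳}
    (hu : AlgSt.RepByAlgSpWith (AlgSp.LocP @Smooth) u) (hus : AlgSt.RepByAlgSpWith AlgSp.IsSurjectiveMor u)
    {h : U ⟶ V} (j : BasedFunctor.comp u π ≅ AlgSt.overMap h) :
    Flat h.left ∧ LocallyOfFinitePresentation h.left ∧ Surjective h.left := by
  obtain ⟨R, hR, hR'⟩ := exists_sections h𝒳.isStack.1 hπ.1
  rw [GrothendieckTopology.mem_over_iff, Precoverage.mem_toGrothendieck_iff_of_isStableUnderComposition] at hR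
  obtain ⟨R₀, hR₀, hle⟩ := hR
  have key : ∀ ⦃Y' : Scheme.{u}⦄ (f : Y' ⟶ V.left), R₀ f →
      Flat (pullback.snd h.left f) ∧ LocallyOfFinitePresentation (pullback.snd h.left f) ∧
        Surjective (pullback.snd h.left f) := by
    intro Y' f hf
    let v : Over.mk (f ≫ V.hom) ⟶ V := Over.homMk f rfl
    obtain ⟨x, ⟨jx⟩⟩ := hR' v ((Sieve.overEquiv_iff _ _).1 (hle _ _ hf))
    obtain ⟨h₁, h₂, h₃⟩ := of_lift h𝒳 hπ.2 hu hus j x jx
    have sq := (IsPullback.of_hasPullback h v).map (Over.forget S)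
    have e : sq.isoPullback.inv ≫ (pullback.snd h v).left = pullback.snd h.left f := sq.isoPullback_inv_snd
    rw [← e]
    haveI := h₁; haveI := h₂; haveI := h₃
    exact ⟨inferInstance, inferInstance, inferInstance⟩
  refine ⟨Quot16.of_fppf_family h.left hR₀ fun _ f hf => (key f hf).1,
    Quot16.of_fppf_family h.left hR₀ fun _ f hf => (key f hf).2.1, ⟨fun y => ?_⟩⟩
  obtain ⟨Z, f, hf, z, rfl⟩ := (Quot16.mem_fppf_iff hR₀).1 y
  obtain ⟨p, rfl⟩ := (key f hf).2.2.surj z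
  exact ⟨pullback.fst h.left f p, by rw [← Scheme.Hom.comp_apply, pullback.condition, Scheme.Hom.comp_apply]⟩

end Groth.Agent.GerbAbs.Chart
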