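import Groth.Agent.Lib.GerbAbs16.Basic
import Groth.Agent.Lib.AlgSpace.Base
import Groth.Prelude.Def_StGerb2
import Groth.Prelude.Def_StCoarse
import Mathlib.AlgebraicGeometry.AlgClosed.Basic

/-! Functors to sheaves of sets and fppf covers of geometric points. -/

universe w v u

open CategoryTheory CategoryTheory.Functor AlgebraicGeometry Opposite

set_option autoImplicit false
set_option linter.style.haveILetI false
set_option linter.unusedSimpArgs false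
set_option backward.isDefEq.respectTransparency false
set_option backward.isDefEq.respectTransparency.types false

namespace Groth.Agent.GerbAbs

open Groth.Agent.FC16

variable {S : Scheme.{u}}

/-- Every covering sieve of a geometric point is everything. -/
theorem eq_top_of_isAlgClosed {Ω : Type u} [Field Ω] [IsAlgClosed Ω] (t : Spec (CommRingCat.of Ω) ⟶ S)
    {R : Sieve (Over.mk t)} (hR : R ∈ QuotSh.J Scheme.fppfPrecoverage S (Over.mk t)) : R = ⊤ := by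
  obtain ⟨𝒰, h⟩ := (AlgSpace.mem_J_iff (U := Over.mk t) R).1 hR
  obtain ⟨i, y, -⟩ := 𝒰.exists_eq (IsLocalRing.closedPoint Ω : ↥(Over.mk t).left)
  let f : 𝒰.X i ⟶ Spec (CommRingCat.of Ω) := 𝒰.f i
  haveI : LocallyOfFinitePresentation f := (𝒰.map_prop i).2
  haveI : JacobsonSpace ↥(𝒰.X i) := LocallyOfFiniteType.jacobsonSpace f
  obtain ⟨z, -, hz⟩ := nonempty_inter_closedPoints (Z := (Set.univ : Set ↥(𝒰.X i)))
    ⟨y, trivial⟩ isClosed_univ.isLocallyClosed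
  rw [← Sieve.id_mem_iff_eq_top]
  have h1 : Sieve.overEquiv (Over.mk t) R (𝟙 (Spec (CommRingCat.of Ω))) := by
    rw [← pointOfClosedPoint_comp f z hz]
    exact (Sieve.overEquiv (Over.mk t) R).downward_closed (h i) _
  rw [AlgSpace.overEquiv_arrow] at h1
  have h2 := R.downward_closed h1 (Over.homMk (𝟙 _) (by simp) : Over.mk t ⟶ _)
  convert h2 using 1
  ext
  simp

variable {P : (Over S)ᵒᵖ ⥤ Type w}

/-- Morphisms over an identity preserve sections. -/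
theorem sec_eq {a b : Stk.EltObj P} {T : Over S} (k : a ⟶ b) (ha : a.base = T) (hb : b.base = T)
    [(Stk.EltObj.forget P).IsHomLift (𝟙 T) k] :
    P.map (eqToHom ha.symm).op a.sec = P.map (eqToHom hb.symm).op b.sec := by
  have hk : k.hom = eqToHom ha ≫ eqToHom hb.symm := by
    simpa using IsHomLift.fac' (Stk.EltObj.forget P) (𝟙 T) k
  rw [← k.map_sec, hk, ← Functor.map_comp_apply, ← op_comp]
  simp

section Coarse

variable {𝒳 𝒴 : BasedCategory.{v, w} (Over S)} {M : AlgSp.Sp S}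

theorem fibSec_eq_of_hom (π : 𝒳 ⥤ᵇ AlgSt.ofSp M) {T : Over S} {x y : 𝒳.p.Fiber T} (k : x ⟶ y) :
    AlgSt.fibSec π x = AlgSt.fibSec π y := by
  haveI := k.2
  haveI : (Stk.EltObj.forget M.obj).IsHomLift (𝟙 T) (π.map k.1) := BasedFunctor.preserves_isHomLift π _ k.1
  exact sec_eq (π.map k.1) ((π.w_obj x.1).trans x.2) ((π.w_obj y.1).trans y.2)

theorem fibSec_eq_of_iso {π π' : 𝒳 ⥤ᵇ AlgSt.ofSp M} (i : π ≅ π') {T : Over S} (x : 𝒳.p.Fiber T) :
    AlgSt.fibSec π x = AlgSt.fibSec π' x := by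
  haveI : (Stk.EltObj.forget M.obj).IsHomLift (𝟙 T) (appIso i x.1).hom := isHomLift_appIso_hom i x.1 x.2
  exact sec_eq (appIso i x.1).hom ((π.w_obj x.1).trans x.2) ((π'.w_obj x.1).trans x.2)

/-- The point of `𝒴` under a point of `𝒳`. -/
def fibPush (F : 𝒳 ⥤ᵇ 𝒴) {T : Over S} (x : 𝒳.p.Fiber T) : 𝒴.p.Fiber T := ⟨F.obj x.1, (F.w_obj x.1).trans x.2⟩

theorem fibSec_comp (F : 𝒳 ⥤ᵇ 𝒴) (π : 𝒴 ⥤ᵇ AlgSt.ofSp M) {T : Over S} (x : 𝒳.p.Fiber T) :
    AlgSt.fibSec (BasedFunctor.comp F π) x = AlgSt.fibSec π (fibPush F x) := rfl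

variable (hX : FibCat.IsFibGrpd 𝒳.p) (hY : FibCat.IsFibGrpd 𝒴.p) {F : 𝒳 ⥤ᵇ 𝒴}
  (hF : Gerb.IsGerbeOver (QuotSh.J Scheme.fppfPrecoverage S) F)
  {Ω : Type u} [Field Ω] [IsAlgClosed Ω] {t : Spec (CommRingCat.of Ω) ⟶ S}

include hY hF in
theorem exists_fibPush_iso (y : 𝒴.p.Fiber (Over.mk t)) :
    ∃ x : 𝒳.p.Fiber (Over.mk t), Nonempty (fibPush F x ≅ y) := by
  obtain ⟨R, hR, h⟩ := locSurjObj_at _ hF.1 y.1 y.2
  obtain ⟨x, g, hg⟩ := h (𝟙 (Over.mk t)) (by rw [eq_top_of_isAlgClosed t hR]; trivial)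
  haveI := hg
  haveI := FC16.isIso_of_isHomLift hY (𝟙 (Over.mk t)) g
  exact ⟨⟨x, (F.w_obj x).symm.trans (domEq hg)⟩, ⟨fiberIso (asIso g) hg⟩⟩

include hX hF in
theorem iso_of_fibPush {x x' : 𝒳.p.Fiber (Over.mk t)} (e : fibPush F x ≅ fibPush F x') : Nonempty (x ≅ x') := by
  obtain ⟨R, hR, h⟩ := locSurjHom_at _ hF.2 x.1 x'.1 e.hom.1 x.2 e.hom.2
  obtain ⟨x₀, φ, ψ, hφ, hψ, -⟩ := h (𝟙 (Over.mk t)) (by rw [eq_top_of_isAlgClosed t hR]; trivial)
  haveI := hφ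
  haveI := hψ
  haveI := FC16.isIso_of_isHomLift hX (𝟙 (Over.mk t)) φ
  haveI := FC16.isIso_of_isHomLift hX (𝟙 (Over.mk t)) ψ
  haveI : 𝒳.p.IsHomLift (𝟙 (Over.mk t)) (asIso φ).hom := hφ
  haveI : 𝒳.p.IsHomLift (𝟙 (Over.mk t)) (asIso ψ).hom := hψ
  exact ⟨fiberIso ((asIso φ).symm ≪≫ asIso ψ)
    (by simpa using (inferInstance : 𝒳.p.IsHomLift (𝟙 (Over.mk t) ≫ 𝟙 (Over.mk t)) ((asIso φ).inv ≫ (asIso ψ).hom)))⟩

end Coarse

end Groth.Agent.GerbAbs
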