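import Groth.Agent.Lib.FC16.Stack
import Groth.Agent.Lib.FC16.Comp
import Groth.Prelude.Def_StGerb

/-! Gerbes over categories fibred in groupoids: composites, base change, descent. -/

universe v₇ u₇ v₆ u₆ v₅ u₅ v₄ u₄ v₃ u₃ v₂ u₂ v u

open CategoryTheory CategoryTheory.Functor

set_option autoImplicit false
set_option linter.style.haveILetI false
set_option linter.unusedSimpArgs false
set_option linter.unusedSectionVars false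
set_option backward.isDefEq.respectTransparency false
set_option backward.isDefEq.respectTransparency.types false

namespace Groth.Agent.GerbAbs

open Groth.Agent.FC16

variable {C : Type u} [Category.{v} C] (J : GrothendieckTopology C)
  {𝒳 : BasedCategory.{v₂, u₂} C} {𝒴 : BasedCategory.{v₃, u₃} C} {𝒵 : BasedCategory.{v₄, u₄} C}

theorem locSurjObj_at {F : 𝒳 ⥤ᵇ 𝒴} (hF : Gerb.LocSurjObj J F) (y : 𝒴.obj) {U : C} (hy : 𝒴.p.obj y = U) :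
    ∃ R ∈ J U, ∀ ⦃V : C⦄ (f : V ⟶ U), R f →
      ∃ (x : 𝒳.obj) (g : F.obj x ⟶ y), 𝒴.p.IsHomLift f g := by
  subst hy; exact hF y

theorem locSurjHom_at {F : 𝒳 ⥤ᵇ 𝒴} (hF : Gerb.LocSurjHom J F) (x x' : 𝒳.obj) (b : F.obj x ⟶ F.obj x')
    {U : C} (hx : 𝒳.p.obj x = U) (hb : 𝒴.p.IsHomLift (𝟙 U) b) :
    ∃ R ∈ J U, ∀ ⦃V : C⦄ (f : V ⟶ U), R f →
      ∃ (x₀ : 𝒳.obj) (φ : x₀ ⟶ x) (ψ : x₀ ⟶ x'),
        𝒳.p.IsHomLift f φ ∧ 𝒳.p.IsHomLift f ψ ∧ F.map φ ≫ b = F.map ψ := by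
  subst hx; exact hF x x' b hb

theorem map_comp' {F : 𝒳 ⥤ᵇ 𝒴} {a b c : 𝒳.obj} (φ : a ⟶ b) (ψ : b ⟶ c) :
    F.map (φ ≫ ψ) = F.map φ ≫ F.map ψ := F.toFunctor.map_comp _ _

theorem isHomLift_fp {𝒮 : BasedCategory.{v₅, u₅} C} {F : 𝒳 ⥤ᵇ 𝒮} {G : 𝒴 ⥤ᵇ 𝒮} {a b : (FibCat.fp F G).obj}
    {R S : C} (f : R ⟶ S) (φ : a ⟶ b) [𝒳.p.IsHomLift f φ.hom.fst] :
    (FibCat.fp F G).p.IsHomLift f φ :=
  IsHomLift.of_fac' (FibCat.fp F G).p f φ (IsHomLift.domain_eq 𝒳.p f φ.hom.fst)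
    (IsHomLift.codomain_eq 𝒳.p f φ.hom.fst) (IsHomLift.fac' 𝒳.p f φ.hom.fst)

variable {J}

theorem domEq {A : Type u₂} [Category.{v₂} A] {p : A ⥤ C} {R S : C} {f : R ⟶ S} {a b : A} {φ : a ⟶ b}
    (h : p.IsHomLift f φ) : p.obj a = R := IsHomLift.domain_eq p f φ

theorem liftEq {A : Type u₂} [Category.{v₂} A] {p : A ⥤ C} {R S : C} {f f' : R ⟶ S} {a b : A} {φ : a ⟶ b}
    (e : f = f') (h : p.IsHomLift f φ) : p.IsHomLift f' φ := e ▸ h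

/-- A morphism into the target of a lift factors through it over the identity, by an isomorphism. -/
theorem exists_iso_fac (hY : FibCat.IsFibGrpd 𝒴.p) {V U : C} (f : V ⟶ U) {a b c : 𝒴.obj} (g : a ⟶ c) (η : b ⟶ c)
    [𝒴.p.IsHomLift f g] [𝒴.p.IsHomLift f η] :
    ∃ β : a ≅ b, 𝒴.p.IsHomLift (𝟙 V) β.hom ∧ β.hom ≫ η = g := by
  haveI := FC16.isStronglyCartesian hY f η
  let β := IsCartesian.map 𝒴.p f η g
  haveI : IsIso β := isIso_of_isHomLift hY (𝟙 V) β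
  exact ⟨asIso β, inferInstanceAs (𝒴.p.IsHomLift (𝟙 V) β), IsCartesian.fac 𝒴.p f η g⟩

/-- Composites of gerbes are gerbes. -/
theorem isGerbeOver_comp (hX : FibCat.IsFibGrpd 𝒳.p) (hY : FibCat.IsFibGrpd 𝒴.p) {F : 𝒳 ⥤ᵇ 𝒴} {G : 𝒴 ⥤ᵇ 𝒵}
    (hF : Gerb.IsGerbeOver J F) (hG : Gerb.IsGerbeOver J G) :
    Gerb.IsGerbeOver J (BasedFunctor.comp F G) := by
  refine ⟨fun z => ?_, fun x x' b hb => ?_⟩
  · obtain ⟨R₁, hR₁, h₁⟩ := hG.1 z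
    choose y g hg using h₁
    choose R₂ hR₂ h₂ using fun (V : C) (f : V ⟶ 𝒵.p.obj z) (hf : R₁ f) =>
      locSurjObj_at J hF.1 (y f hf) ((G.w_obj _).symm.trans (domEq (hg f hf)))
    refine ⟨Sieve.bind R₁.arrows fun V f hf => R₂ V f hf, J.bind_covering hR₁ fun V f hf => hR₂ V f hf, ?_⟩
    rintro W h ⟨V, k, f, hf, hk, rfl⟩
    obtain ⟨x, e, he⟩ := h₂ V f hf k hk
    haveI := he
    haveI := hg f hf
    exact ⟨x, G.map e ≫ g f hf, inferInstanceAs (𝒵.p.IsHomLift (k ≫ f) (G.map e ≫ g f hf))⟩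
  · haveI := hb
    have hx' : 𝒳.p.obj x' = 𝒳.p.obj x := by
      have := IsHomLift.codomain_eq 𝒵.p (𝟙 (𝒳.p.obj x)) b
      exact ((BasedFunctor.comp F G).w_obj x').symm.trans this
    obtain ⟨R, hR, h⟩ := locSurjHom_at J hG.2 (F.obj x) (F.obj x') b (F.w_obj x) hb
    choose y₀ φ ψ hφ hψ e using h
    choose x₁ φ₁ hφ₁ using fun (V : C) (f : V ⟶ 𝒳.p.obj x) (_ : R f) => FC16.exists_lift hX (x := x) rfl f
    choose x₁' ψ₁ hψ₁ using fun (V : C) (f : V ⟶ 𝒳.p.obj x) (_ : R f) => FC16.exists_lift hX hx' f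
    have key : ∀ (V : C) (f : V ⟶ 𝒳.p.obj x) (hf : R f), ∃ c : F.obj (x₁ V f hf) ⟶ F.obj (x₁' V f hf),
        𝒴.p.IsHomLift (𝟙 V) c ∧ G.map (F.map (φ₁ V f hf)) ≫ b = G.map c ≫ G.map (F.map (ψ₁ V f hf)) := by
      intro V f hf
      haveI := hφ₁ V f hf
      haveI := hψ₁ V f hf
      haveI := hφ f hf
      haveI := hψ f hf
      obtain ⟨a, ha, ha'⟩ := exists_iso_fac hY f (φ f hf) (F.map (φ₁ V f hf))
      obtain ⟨a', ha₂, ha₂'⟩ := exists_iso_fac hY f (ψ f hf) (F.map (ψ₁ V f hf))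
      haveI := ha
      haveI := ha₂
      refine ⟨a.inv ≫ a'.hom, by simpa using (inferInstance : 𝒴.p.IsHomLift (𝟙 V ≫ 𝟙 V) (a.inv ≫ a'.hom)), ?_⟩
      rw [← map_comp', Category.assoc, ha₂', map_comp', ← e f hf]
      conv_rhs => rw [← ha', map_comp']
      simp only [← Category.assoc]
      rw [← map_comp', Iso.inv_hom_id]
      simp
    choose c hc hc' using key
    choose R₂ hR₂ h₂ using fun (V : C) (f : V ⟶ 𝒳.p.obj x) (hf : R f) =>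
      locSurjHom_at J hF.2 (x₁ V f hf) (x₁' V f hf) (c V f hf)
        (domEq (hφ₁ V f hf)) (hc V f hf)
    refine ⟨Sieve.bind R.arrows fun V f hf => R₂ V f hf, J.bind_covering hR fun V f hf => hR₂ V f hf, ?_⟩
    rintro W h ⟨V, k, f, hf, hk, rfl⟩
    obtain ⟨x₀, φ₂, ψ₂, hφ₂, hψ₂, e₂⟩ := h₂ V f hf k hk
    haveI := hφ₁ V f hf
    haveI := hψ₁ V f hf
    haveI := hφ₂
    haveI := hψ₂
    refine ⟨x₀, φ₂ ≫ φ₁ V f hf, ψ₂ ≫ ψ₁ V f hf, inferInstance, inferInstance, ?_⟩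
    change G.map (F.map (φ₂ ≫ φ₁ V f hf)) ≫ b = G.map (F.map (ψ₂ ≫ ψ₁ V f hf))
    rw [map_comp', map_comp', map_comp', map_comp', Category.assoc, hc', ← Category.assoc, ← map_comp', e₂]

/-- Being a gerbe only depends on the isomorphism class of the functor. -/
theorem isGerbeOver_of_iso {F F' : 𝒳 ⥤ᵇ 𝒴} (i : F ≅ F') (hF : Gerb.IsGerbeOver J F) : Gerb.IsGerbeOver J F' := by
  refine ⟨fun y => ?_, fun x x' b hb => ?_⟩
  · obtain ⟨R, hR, h⟩ := hF.1 y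
    refine ⟨R, hR, fun V f hf => ?_⟩
    obtain ⟨x, g, hg⟩ := h f hf
    have hx : 𝒳.p.obj x = V := (F.w_obj x).symm.trans (domEq hg)
    haveI := hg
    haveI := isHomLift_appIso_hom i x hx
    refine ⟨x, (appIso i x).inv ≫ g, ?_⟩
    simpa using (inferInstance : 𝒴.p.IsHomLift (𝟙 V ≫ f) ((appIso i x).inv ≫ g))
  · haveI := hb
    have hx' : 𝒳.p.obj x' = 𝒳.p.obj x :=
      (F'.w_obj x').symm.trans (IsHomLift.codomain_eq 𝒴.p (𝟙 (𝒳.p.obj x)) b)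
    haveI := isHomLift_appIso_hom i x rfl
    haveI := isHomLift_appIso_hom i x' hx'
    obtain ⟨R, hR, h⟩ := hF.2 x x' ((appIso i x).hom ≫ b ≫ (appIso i x').inv)
      (by simpa using (inferInstance : 𝒴.p.IsHomLift (𝟙 (𝒳.p.obj x) ≫ 𝟙 (𝒳.p.obj x) ≫ 𝟙 (𝒳.p.obj x))
        ((appIso i x).hom ≫ b ≫ (appIso i x').inv)))
    refine ⟨R, hR, fun V f hf => ?_⟩
    obtain ⟨x₀, φ, ψ, hφ, hψ, e⟩ := h f hf
    refine ⟨x₀, φ, ψ, hφ, hψ, ?_⟩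
    have n : ∀ {a c : 𝒳.obj} (χ : a ⟶ c), F.map χ ≫ (appIso i c).hom = (appIso i a).hom ≫ F'.map χ :=
      fun χ => i.hom.toNatTrans.naturality χ
    rw [← cancel_epi (appIso i x₀).hom, ← Category.assoc, ← n, Category.assoc, ← n, ← e]
    simp

/-- An equivalence over the base is a gerbe. -/
theorem isGerbeOver_of_isEquivOver (hX : FibCat.IsFibGrpd 𝒳.p) {F : 𝒳 ⥤ᵇ 𝒴} (hF : FibCat.IsEquivOver F) :
    Gerb.IsGerbeOver J F := by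
  have hY := isFibGrpd_of_isEquivOver hF hX
  haveI := isEquivalence_of_isEquivOver hF
  refine ⟨fun y => ⟨⊤, J.top_mem _, fun V f _ => ?_⟩, fun x x' b hb => ⟨⊤, J.top_mem _, fun V f _ => ?_⟩⟩
  · obtain ⟨y', η, hη⟩ := FC16.exists_lift hY (x := y) rfl f
    obtain ⟨ξ, e, he⟩ := essSurjOver_of_isEquivOver hF y'
    rw [domEq hη] at he
    haveI := he
    haveI := hη
    exact ⟨ξ, e.hom ≫ η, by simpa using (inferInstance : 𝒴.p.IsHomLift (𝟙 V ≫ f) (e.hom ≫ η))⟩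
  · obtain ⟨x₀, φ, hφ⟩ := FC16.exists_lift hX (x := x) rfl f
    obtain ⟨χ, rfl⟩ := F.toFunctor.map_surjective b
    haveI := hb
    haveI : 𝒳.p.IsHomLift (𝟙 (𝒳.p.obj x)) χ := BasedFunctor.isHomLift_map F _ _
    haveI := hφ
    exact ⟨x₀, φ, φ ≫ χ, hφ, by simpa using (inferInstance : 𝒳.p.IsHomLift (f ≫ 𝟙 _) (φ ≫ χ)),
      (map_comp' φ χ).symm⟩

variable {𝒮 : BasedCategory.{v₅, u₅} C}

/-- Base change of a gerbe. -/
theorem isGerbeOver_fpFst (hY : FibCat.IsFibGrpd 𝒴.p) (hS : FibCat.IsFibGrpd 𝒮.p)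
    (G : 𝒴 ⥤ᵇ 𝒮) {F : 𝒳 ⥤ᵇ 𝒮} (hF : Gerb.IsGerbeOver J F) :
    Gerb.IsGerbeOver J (FibCat.fpFst G F) := by
  refine ⟨fun y => ?_, fun a a' b hb => ?_⟩
  · obtain ⟨R, hR, h⟩ := locSurjObj_at J hF.1 (G.obj y) (G.w_obj y)
    refine ⟨R, hR, fun V f hf => ?_⟩
    obtain ⟨x, g, hg⟩ := h f hf
    obtain ⟨y', η, hη⟩ := FC16.exists_lift hY (x := y) rfl f
    haveI := hg
    haveI := hη
    obtain ⟨β, hβ, -⟩ := exists_iso_fac hS f (G.map η) g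
    exact ⟨fpObj y' x β (IsHomLift.domain_eq 𝒴.p f η) hβ, η, hη⟩
  · haveI := hb
    haveI h1 : 𝒮.p.IsHomLift (𝟙 (𝒴.p.obj a.obj.fst)) a.obj.iso.hom := a.property
    haveI h2 : 𝒮.p.IsHomLift (𝟙 (𝒴.p.obj a.obj.fst)) a'.obj.iso.hom := by
      have he : 𝒴.p.obj a.obj.fst = 𝒴.p.obj a'.obj.fst :=
        (IsHomLift.codomain_eq 𝒴.p (𝟙 ((FibCat.fp G F).p.obj a)) b).symm
      rw [he]; exact a'.property
    haveI : 𝒴.p.IsHomLift (𝟙 (𝒴.p.obj a.obj.fst)) b := hb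
    let b₀ : F.obj a.obj.snd ⟶ F.obj a'.obj.snd := a.obj.iso.inv ≫ G.map b ≫ a'.obj.iso.hom
    have hb₀ : 𝒮.p.IsHomLift (𝟙 (𝒴.p.obj a.obj.fst)) b₀ := by
      simpa using (inferInstance : 𝒮.p.IsHomLift
        (𝟙 (𝒴.p.obj a.obj.fst) ≫ 𝟙 (𝒴.p.obj a.obj.fst) ≫ 𝟙 (𝒴.p.obj a.obj.fst))
        (a.obj.iso.inv ≫ G.map b ≫ a'.obj.iso.hom))
    obtain ⟨R, hR, h⟩ := locSurjHom_at J hF.2 a.obj.snd a'.obj.snd b₀
      ((F.w_obj _).symm.trans (IsHomLift.codomain_eq 𝒮.p (𝟙 (𝒴.p.obj a.obj.fst)) a.obj.iso.hom)) hb₀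
    refine ⟨R, hR, fun V f hf => ?_⟩
    obtain ⟨x₀, φ, ψ, hφ, hψ, e⟩ := h f hf
    obtain ⟨y₀, η, hη⟩ := FC16.exists_lift hY (x := a.obj.fst) rfl f
    haveI := hη
    haveI := hφ
    haveI : 𝒮.p.IsHomLift f (G.map η ≫ a.obj.iso.hom) := liftEq (Category.comp_id f)
      (inferInstance : 𝒮.p.IsHomLift (f ≫ 𝟙 (𝒴.p.obj a.obj.fst)) (G.map η ≫ a.obj.iso.hom))
    obtain ⟨β, hβ, hβ'⟩ := exists_iso_fac hS f (G.map η ≫ a.obj.iso.hom) (F.map φ)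
    haveI : 𝒴.p.IsHomLift f (η ≫ b) := liftEq (Category.comp_id f)
      (inferInstance : 𝒴.p.IsHomLift (f ≫ 𝟙 (𝒴.p.obj a.obj.fst)) (η ≫ b))
    let Φ : fpObj y₀ x₀ β (IsHomLift.domain_eq 𝒴.p f η) hβ ⟶ a := fpHom η φ hβ'.symm
    let Ψ : fpObj y₀ x₀ β (IsHomLift.domain_eq 𝒴.p f η) hβ ⟶ a' := fpHom (η ≫ b) ψ (by
      change G.map (η ≫ b) ≫ a'.obj.iso.hom = β.hom ≫ F.map ψ
      rw [← e, reassoc_of% hβ', map_comp']
      simp [b₀])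
    haveI : 𝒴.p.IsHomLift f Φ.hom.fst := hη
    haveI : 𝒴.p.IsHomLift f Ψ.hom.fst := inferInstanceAs (𝒴.p.IsHomLift f (η ≫ b))
    exact ⟨_, Φ, Ψ, isHomLift_fp f Φ, isHomLift_fp f Ψ, rfl⟩

/-- A gerbe along a locally essentially surjective base change. -/
theorem isGerbeOver_of_fpFst (hX : FibCat.IsFibGrpd 𝒳.p) (hS : FibCat.IsFibGrpd 𝒮.p)
    {G : 𝒴 ⥤ᵇ 𝒮} (hG : Gerb.LocSurjObj J G) {F : 𝒳 ⥤ᵇ 𝒮}
    (h : Gerb.IsGerbeOver J (FibCat.fpFst G F)) : Gerb.IsGerbeOver J F := by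
  refine ⟨fun s => ?_, fun x x' b hb => ?_⟩
  · obtain ⟨R, hR, h₁⟩ := hG s
    choose y g hg using h₁
    choose R₂ hR₂ h₂ using fun (V : C) (f : V ⟶ 𝒮.p.obj s) (hf : R f) =>
      locSurjObj_at J h.1 (y f hf) ((G.w_obj _).symm.trans (domEq (hg f hf)))
    refine ⟨Sieve.bind R.arrows fun V f hf => R₂ V f hf, J.bind_covering hR fun V f hf => hR₂ V f hf, ?_⟩
    rintro W k' ⟨V, k, f, hf, hk, rfl⟩
    obtain ⟨w, d, hd⟩ := h₂ V f hf k hk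
    haveI := hd
    haveI := hg f hf
    haveI : 𝒮.p.IsHomLift (𝟙 W) w.obj.iso.hom := by
      have hw : 𝒴.p.obj w.obj.fst = W := IsHomLift.domain_eq 𝒴.p k d
      rw [← hw]; exact w.property
    haveI : 𝒮.p.IsHomLift k (G.map d) := inferInstance
    refine ⟨w.obj.snd, w.obj.iso.inv ≫ G.map d ≫ g f hf, ?_⟩
    simpa using (inferInstance : 𝒮.p.IsHomLift (𝟙 W ≫ k ≫ f) (w.obj.iso.inv ≫ G.map d ≫ g f hf))
  · haveI := hb
    have hx' : 𝒳.p.obj x' = 𝒳.p.obj x :=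
      (F.w_obj x').symm.trans (IsHomLift.codomain_eq 𝒮.p (𝟙 (𝒳.p.obj x)) b)
    obtain ⟨R, hR, h₁⟩ := locSurjObj_at J hG (F.obj x) (F.w_obj x)
    choose y g hg using h₁
    choose x₁ φ₁ hφ₁ using fun (V : C) (f : V ⟶ 𝒳.p.obj x) (_ : R f) => FC16.exists_lift hX (x := x) rfl f
    choose x₁' ψ₁ hψ₁ using fun (V : C) (f : V ⟶ 𝒳.p.obj x) (_ : R f) => FC16.exists_lift hX hx' f
    have key : ∀ (V : C) (f : V ⟶ 𝒳.p.obj x) (hf : R f), ∃ (i : G.obj (y f hf) ≅ F.obj (x₁ V f hf))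
        (i' : G.obj (y f hf) ≅ F.obj (x₁' V f hf)), 𝒮.p.IsHomLift (𝟙 V) i.hom ∧ 𝒮.p.IsHomLift (𝟙 V) i'.hom ∧
          i.hom ≫ F.map (φ₁ V f hf) ≫ b = i'.hom ≫ F.map (ψ₁ V f hf) := by
      intro V f hf
      haveI := hφ₁ V f hf
      haveI := hψ₁ V f hf
      haveI := hg f hf
      haveI : 𝒮.p.IsHomLift f (g f hf ≫ b) := by
        simpa using (inferInstance : 𝒮.p.IsHomLift (f ≫ 𝟙 (𝒳.p.obj x)) (g f hf ≫ b))
      obtain ⟨i, hi, hi'⟩ := exists_iso_fac hS f (g f hf) (F.map (φ₁ V f hf))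
      obtain ⟨i', hi₂, hi₂'⟩ := exists_iso_fac hS f (g f hf ≫ b) (F.map (ψ₁ V f hf))
      exact ⟨i, i', hi, hi₂, by rw [reassoc_of% hi', hi₂']⟩
    choose i i' hi hi' hii using key
    have hy : ∀ (V : C) (f : V ⟶ 𝒳.p.obj x) (hf : R f), 𝒴.p.obj (y f hf) = V := fun V f hf =>
      (G.w_obj _).symm.trans (domEq (hg f hf))
    choose R₂ hR₂ h₂ using fun (V : C) (f : V ⟶ 𝒳.p.obj x) (hf : R f) =>
      locSurjHom_at J h.2 (fpObj (y f hf) (x₁ V f hf) (i V f hf) (hy V f hf) (hi V f hf))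
        (fpObj (y f hf) (x₁' V f hf) (i' V f hf) (hy V f hf) (hi' V f hf)) (𝟙 (y f hf))
        (show 𝒴.p.obj (y f hf) = V from hy V f hf) (IsHomLift.id (hy V f hf))
    refine ⟨Sieve.bind R.arrows fun V f hf => R₂ V f hf, J.bind_covering hR fun V f hf => hR₂ V f hf, ?_⟩
    rintro W k' ⟨V, k, f, hf, hk, rfl⟩
    obtain ⟨w, Φ, Ψ, hΦ, hΨ, e⟩ := h₂ V f hf k hk
    have e' : Φ.hom.fst = Ψ.hom.fst := (Category.comp_id _).symm.trans e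
    haveI := hφ₁ V f hf
    haveI := hψ₁ V f hf
    haveI := hΦ
    haveI := hΨ
    haveI : 𝒳.p.IsHomLift k Φ.hom.snd := inferInstanceAs (𝒳.p.IsHomLift k ((FibCat.fpSnd G F).map Φ))
    haveI : 𝒳.p.IsHomLift k Ψ.hom.snd := inferInstanceAs (𝒳.p.IsHomLift k ((FibCat.fpSnd G F).map Ψ))
    refine ⟨w.obj.snd, Φ.hom.snd ≫ φ₁ V f hf, Ψ.hom.snd ≫ ψ₁ V f hf, inferInstance, inferInstance, ?_⟩
    have w₁ : G.map Φ.hom.fst ≫ (i V f hf).hom = w.obj.iso.hom ≫ F.map Φ.hom.snd := fp_w Φ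
    have w₂ : G.map Ψ.hom.fst ≫ (i' V f hf).hom = w.obj.iso.hom ≫ F.map Ψ.hom.snd := fp_w Ψ
    rw [← cancel_epi w.obj.iso.hom, map_comp', map_comp', Category.assoc, ← Category.assoc w.obj.iso.hom, ← w₁,
      ← Category.assoc w.obj.iso.hom (F.map Ψ.hom.snd), ← w₂, Category.assoc, Category.assoc, hii, e']

/-- whiskering an isomorphism on the right -/
def wrIso {F F' : 𝒳 ⥤ᵇ 𝒴} (i : F ≅ F') (G : 𝒴 ⥤ᵇ 𝒵) : BasedFunctor.comp F G ≅ BasedFunctor.comp F' G :=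
  (postFun 𝒳 G).mapIso i

/-- Gerbes descend along equivalences of the source. -/
theorem isGerbeOver_of_comp_isEquivOver (hX : FibCat.IsFibGrpd 𝒳.p) {K : 𝒳 ⥤ᵇ 𝒴} (hK : FibCat.IsEquivOver K)
    {G : 𝒴 ⥤ᵇ 𝒵} (h : Gerb.IsGerbeOver J (BasedFunctor.comp K G)) : Gerb.IsGerbeOver J G := by
  obtain ⟨L, hL, -, ⟨β⟩⟩ := exists_inverse hK
  have hY := isFibGrpd_of_isEquivOver hK hX
  exact isGerbeOver_of_iso (F := BasedFunctor.comp (BasedFunctor.comp L K) G) (wrIso β G)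
    (isGerbeOver_comp hY hX (isGerbeOver_of_isEquivOver hY hL) h)

end Groth.Agent.GerbAbs
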