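import Groth.Agent.Lib.GerbAbs16.Glue
import Groth.Agent.Lib.GerbAbs16.Basic
import Groth.Agent.Lib.StAlg16.Cover
import Mathlib.CategoryTheory.Sites.Whiskering

/-! The band of a gerbe with commutative automorphism groups. -/

universe v u

open CategoryTheory CategoryTheory.Functor Opposite

set_option autoImplicit false
set_option linter.style.haveILetI false
set_option linter.unusedSimpArgs false
set_option linter.unusedSectionVars false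
set_option backward.isDefEq.respectTransparency false
set_option backward.isDefEq.respectTransparency.types false

namespace Groth.Agent.GerbAbs.Band

open Groth.Agent.FC16

variable {C : Type u} [Category.{v} C] {J : GrothendieckTopology C} {𝒳 : BasedCategory.{v, max u v} C}

theorem map_val {z : 𝒳.obj} (α : Gerb.AutO z) : 𝒳.p.map α.hom.1 = 𝟙 _ := by
  haveI := α.hom.2
  simpa using IsHomLift.fac' 𝒳.p (𝟙 (𝒳.p.obj z)) α.hom.1

theorem lift_of_map {a b : 𝒳.obj} (φ : a ⟶ b) {h : 𝒳.p.obj a ⟶ 𝒳.p.obj b} (e : 𝒳.p.map φ = h) :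
    𝒳.p.IsHomLift h φ := IsHomLift.of_fac' 𝒳.p _ _ rfl rfl (by simp [e])

theorem autO_ext {z : 𝒳.obj} {α β : Gerb.AutO z} (h : α.hom.1 = β.hom.1) : α = β :=
  Iso.ext (Fiber.hom_ext h)

theorem exists_autO (hX : FibCat.IsFibGrpd 𝒳.p) {z : 𝒳.obj} (γ : z ⟶ z) (h : 𝒳.p.map γ = 𝟙 _) :
    ∃ α : Gerb.AutO z, α.hom.1 = γ := by
  haveI := lift_of_map γ h
  haveI := FC16.isIso_of_isHomLift hX (𝟙 (𝒳.p.obj z)) γ
  exact ⟨FC16.fiberIso (a := Gerb.fib z) (b := Gerb.fib z) (asIso γ) (lift_of_map γ h), rfl⟩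

theorem exists_res (hX : FibCat.IsFibGrpd 𝒳.p) {z' z : 𝒳.obj} (φ : z' ⟶ z) (α : Gerb.AutO z) :
    ∃ γ : Gerb.AutO z', γ.hom.1 ≫ φ = φ ≫ α.hom.1 := by
  haveI := lift_of_map φ rfl
  haveI := FC16.isStronglyCartesian hX (𝒳.p.map φ) φ
  haveI : 𝒳.p.IsHomLift (𝒳.p.map φ) (φ ≫ α.hom.1) := lift_of_map _ (by simp [map_val])
  let γ := IsCartesian.map 𝒳.p (𝒳.p.map φ) φ (φ ≫ α.hom.1)
  haveI := IsCartesian.map_isHomLift 𝒳.p (𝒳.p.map φ) φ (φ ≫ α.hom.1)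
  obtain ⟨δ, hδ⟩ := exists_autO hX γ (by simpa using IsHomLift.fac' 𝒳.p (𝟙 (𝒳.p.obj z')) γ)
  exact ⟨δ, by rw [hδ]; exact IsCartesian.fac 𝒳.p _ _ _⟩

variable (hX : FibCat.IsFibGrpd 𝒳.p)

/-- restriction of an automorphism along a morphism -/
noncomputable def res {z' z : 𝒳.obj} (φ : z' ⟶ z) (α : Gerb.AutO z) : Gerb.AutO z' := (exists_res hX φ α).choose

theorem res_spec {z' z : 𝒳.obj} (φ : z' ⟶ z) (α : Gerb.AutO z) :
    (res hX φ α).hom.1 ≫ φ = φ ≫ α.hom.1 := (exists_res hX φ α).choose_spec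

theorem res_unique {z' z : 𝒳.obj} (φ : z' ⟶ z) (α : Gerb.AutO z) (γ : Gerb.AutO z')
    (h : γ.hom.1 ≫ φ = φ ≫ α.hom.1) : γ = res hX φ α := by
  haveI := lift_of_map φ rfl
  haveI := FC16.isStronglyCartesian hX (𝒳.p.map φ) φ
  haveI := γ.hom.2
  haveI := (res hX φ α).hom.2
  exact autO_ext (IsStronglyCartesian.ext 𝒳.p (𝒳.p.map φ) φ (𝟙 (𝒳.p.obj z')) (h.trans (res_spec hX φ α).symm))

theorem res_comp {z'' z' z : 𝒳.obj} (k : z'' ⟶ z') (φ : z' ⟶ z) (α : Gerb.AutO z) :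
    res hX (k ≫ φ) α = res hX k (res hX φ α) := by
  refine (res_unique hX _ α _ ?_).symm
  rw [← Category.assoc, res_spec, Category.assoc, res_spec, Category.assoc]

theorem res_id {z : 𝒳.obj} (α : Gerb.AutO z) : res hX (𝟙 z) α = α :=
  (res_unique hX _ α _ (by simp)).symm

theorem res_mul {z' z : 𝒳.obj} (φ : z' ⟶ z) (α β : Gerb.AutO z) :
    res hX φ (α * β) = res hX φ α * res hX φ β := by
  refine (res_unique hX _ _ _ ?_).symm
  change ((res hX φ β).hom.1 ≫ (res hX φ α).hom.1) ≫ φ = φ ≫ β.hom.1 ≫ α.hom.1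
  rw [Category.assoc, res_spec, ← Category.assoc, res_spec, Category.assoc]

theorem res_one {z' z : 𝒳.obj} (φ : z' ⟶ z) : res hX φ (1 : Gerb.AutO z) = 1 :=
  (res_unique hX _ _ _ (by change 𝟙 z' ≫ φ = φ ≫ 𝟙 z; simp)).symm

theorem res_inv {z' z : 𝒳.obj} (φ : z' ⟶ z) (α : Gerb.AutO z) : res hX φ α⁻¹ = (res hX φ α)⁻¹ :=
  eq_inv_of_mul_eq_one_left (by rw [← res_mul, inv_mul_cancel, res_one])

theorem res_congr (hcomm : ∀ (x : 𝒳.obj) (α β : Gerb.AutO x), α * β = β * α) {z' z : 𝒳.obj} (φ φ' : z' ⟶ z)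
    (e : 𝒳.p.map φ' = 𝒳.p.map φ) (α : Gerb.AutO z) : res hX φ' α = res hX φ α := by
  haveI := lift_of_map φ rfl
  haveI := FC16.isStronglyCartesian hX (𝒳.p.map φ) φ
  haveI := lift_of_map φ' e
  haveI := IsCartesian.map_isHomLift 𝒳.p (𝒳.p.map φ) φ φ'
  obtain ⟨δ, hδ⟩ := exists_autO hX (IsCartesian.map 𝒳.p (𝒳.p.map φ) φ φ')
    (by simpa using IsHomLift.fac' 𝒳.p (𝟙 (𝒳.p.obj z')) (IsCartesian.map 𝒳.p (𝒳.p.map φ) φ φ'))
  have h : δ.hom.1 ≫ φ = φ' := by rw [hδ]; exact IsCartesian.fac 𝒳.p _ _ _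
  refine (res_unique hX φ' α _ ?_).symm
  have hc : δ.hom.1 ≫ (res hX φ α).hom.1 = (res hX φ α).hom.1 ≫ δ.hom.1 :=
    congrArg (fun t : Gerb.AutO z' => t.hom.1) (hcomm z' (res hX φ α) δ)
  rw [← h, ← Category.assoc, ← hc, Category.assoc, res_spec, Category.assoc]

variable (hst : Stk.IsPrestack J 𝒳)

theorem ext_of_cover {z : 𝒳.obj} {R : Sieve (𝒳.p.obj z)} (hR : R ∈ J (𝒳.p.obj z)) (α β : Gerb.AutO z)
    (h : ∀ (z₀ : 𝒳.obj) (π : z₀ ⟶ z), R (𝒳.p.map π) → res hst.1 π α = res hst.1 π β) : α = β := by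
  haveI := α.hom.2
  haveI := β.hom.2
  refine autO_ext (StAlg16.hom_ext_of_cover hst hR α.hom.1 β.hom.1 fun w π V g hg hπ => ?_)
  have hw : 𝒳.p.obj w = V := IsHomLift.domain_eq 𝒳.p g π
  subst hw
  have hm : R (𝒳.p.map π) := by
    rwa [show 𝒳.p.map π = g by simpa using IsHomLift.fac' 𝒳.p g π]
  rw [← res_spec hst.1 π α, ← res_spec hst.1 π β, h w π hm]

theorem exists_aut_glue {z : 𝒳.obj} {R : Sieve (𝒳.p.obj z)} (hR : R ∈ J (𝒳.p.obj z))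
    (a : ∀ (z₀ : 𝒳.obj) (π : z₀ ⟶ z), R (𝒳.p.map π) → Gerb.AutO z₀)
    (hc : ∀ (z₁ z₀ : 𝒳.obj) (k : z₁ ⟶ z₀) (π : z₀ ⟶ z) h h', a z₁ (k ≫ π) h' = res hst.1 k (a z₀ π h)) :
    ∃ α : Gerb.AutO z, ∀ (z₀ : 𝒳.obj) (π : z₀ ⟶ z) h, res hst.1 π α = a z₀ π h := by
  obtain ⟨μ, hμ, hμ'⟩ := exists_glue hst hR (x := z) (y := z) rfl rfl
    (fun w π h => (a w π (by simpa using h)).hom.1 ≫ π) (fun w π h => by simp [map_val])
    (fun w' w k π h h' => by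
      change (a w' (k ≫ π) _).hom.1 ≫ k ≫ π = k ≫ (a w π _).hom.1 ≫ π
      rw [hc w' w k π (by simpa using h), ← Category.assoc, res_spec, Category.assoc])
  obtain ⟨α, hα⟩ := exists_autO hst.1 μ (by haveI := hμ; simpa using IsHomLift.fac' 𝒳.p (𝟙 (𝒳.p.obj z)) μ)
  exact ⟨α, fun z₀ π h => (res_unique hst.1 π α _ (by rw [hα, hμ' z₀ π (by simpa using h)])).symm⟩

/-- compatible families of automorphisms over `U` -/
def family (U : C) : Subgroup (∀ z : 𝒳.obj, (𝒳.p.obj z ⟶ U) → Gerb.AutO z) where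
  carrier := {s | ∀ (z' z : 𝒳.obj) (φ : z' ⟶ z) h, s z' (𝒳.p.map φ ≫ h) = res hX φ (s z h)}
  one_mem' := fun _ _ φ _ => (res_one hX φ).symm
  mul_mem' := fun {s t} hs ht z' z φ h => by
    change s z' _ * t z' _ = res hX φ (s z h * t z h)
    rw [res_mul, hs, ht]
  inv_mem' := fun {s} hs z' z φ h => by
    change (s z' _)⁻¹ = res hX φ (s z h)⁻¹
    rw [res_inv, hs]

theorem family_ext {U : C} {s t : family hX U} (h : ∀ z f, s.1 z f = t.1 z f) : s = t :=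
  Subtype.ext (funext fun z => funext (h z))

/-- the presheaf of compatible families -/
noncomputable def bandPresheaf : Cᵒᵖ ⥤ GrpCat.{max u v} where
  obj U := GrpCat.of (family hX U.unop)
  map {U V} f := GrpCat.ofHom
    { toFun := fun s => ⟨fun z h => s.1 z (h ≫ f.unop), fun z' z φ h => by
        change s.1 z' ((𝒳.p.map φ ≫ h) ≫ f.unop) = _
        rw [Category.assoc]
        exact s.2 z' z φ _⟩
      map_one' := rfl
      map_mul' := fun _ _ => rfl }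
  map_id U := GrpCat.hom_ext (MonoidHom.ext fun s => family_ext hX fun z h => by
    change s.1 z (h ≫ 𝟙 _) = s.1 z h
    rw [Category.comp_id])
  map_comp {U V W} f g := GrpCat.hom_ext (MonoidHom.ext fun s => family_ext hX fun z h => by
    change s.1 z (h ≫ g.unop ≫ f.unop) = s.1 z ((h ≫ g.unop) ≫ f.unop)
    rw [Category.assoc])

theorem isSheaf_band : Presheaf.IsSheaf J (bandPresheaf hst.1) := by
  rw [Presheaf.isSheaf_iff_isSheaf_forget (s := CategoryTheory.forget _), isSheaf_iff_isSheaf_of_type]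
  intro U R hR x hx
  rw [Presieve.compatible_iff_sieveCompatible] at hx
  have hx' : ∀ {V W : C} (f : V ⟶ U) (g : W ⟶ V) (hf : R f) (z : 𝒳.obj) (h : 𝒳.p.obj z ⟶ W),
      (x (g ≫ f) (R.downward_closed hf g)).1 z h = (x f hf).1 z (h ≫ g) := fun f g hf z h =>
    congrArg (fun s : family hst.1 _ => s.1 z h) (hx f g hf)
  have cx : ∀ {V V' : C} (f : V ⟶ U) (hf : R f) (f' : V' ⟶ U) (hf' : R f') (e : V' = V), f' = eqToHom e ≫ f →
      ∀ (z : 𝒳.obj) (h : 𝒳.p.obj z ⟶ V'), (x f' hf').1 z h = (x f hf).1 z (h ≫ eqToHom e) := by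
    intro V V' f hf f' hf' e he z h
    subst e
    simp only [eqToHom_refl, Category.id_comp] at he
    subst he
    simp
  choose t ht using fun (z : 𝒳.obj) (h : 𝒳.p.obj z ⟶ U) =>
    exists_aut_glue hst (J.pullback_stable h hR)
      (fun z₀ π hπ => (x (𝒳.p.map π ≫ h) hπ).1 z₀ (𝟙 _))
      (fun z₁ z₀ k π hπ hπ' => by
        have e := (x (𝒳.p.map π ≫ h) hπ).2 z₁ z₀ k (𝟙 _)
        rw [Category.comp_id] at e
        rw [← e, cx (f := 𝒳.p.map k ≫ 𝒳.p.map π ≫ h) (R.downward_closed hπ _) _ hπ' rfl (by simp) z₁ (𝟙 _),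
          hx' _ (𝒳.p.map k) hπ]
        simp)
  have ht' : ∀ (z' z : 𝒳.obj) (φ : z' ⟶ z) (h : 𝒳.p.obj z ⟶ U),
      t z' (𝒳.p.map φ ≫ h) = res hst.1 φ (t z h) := by
    intro z' z φ h
    refine ext_of_cover hst (J.pullback_stable (𝒳.p.map φ ≫ h) hR) _ _ fun z₀ π hπ => ?_
    have hπ₂ : R (𝒳.p.map (π ≫ φ) ≫ h) := by simpa using hπ
    rw [← res_comp, ht z' _ z₀ π hπ, ht z h z₀ (π ≫ φ) hπ₂,
      cx (f := 𝒳.p.map (π ≫ φ) ≫ h) hπ₂ _ hπ rfl (by simp) z₀ (𝟙 _)]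
    simp
  refine ⟨⟨t, ht'⟩, fun V f hf => family_ext hst.1 fun z h => ?_, fun s hs => family_ext hst.1 fun z h => ?_⟩
  · change t z (h ≫ f) = (x f hf).1 z h
    refine ext_of_cover hst (J.pullback_stable (h ≫ f) hR) _ _ fun z₀ π hπ => ?_
    rw [ht z _ z₀ π hπ, ← (x f hf).2 z₀ z π h,
      cx (f := (𝒳.p.map π ≫ h) ≫ f) (R.downward_closed hf _) _ hπ rfl (by simp) z₀ (𝟙 _), hx' _ _ hf]
    simp
  · refine ext_of_cover hst (J.pullback_stable h hR) _ _ fun z₀ π hπ => ?_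
    rw [ht z h z₀ π hπ, ← hs (𝒳.p.map π ≫ h) hπ]
    refine (s.2 z₀ z π h).symm.trans ?_
    change _ = s.1 z₀ (𝟙 _ ≫ 𝒳.p.map π ≫ h)
    rw [Category.id_comp]

variable (hcomm : ∀ (x : 𝒳.obj) (α β : Gerb.AutO x), α * β = β * α)

theorem exists_local_lift (hst : Stk.IsPrestack J 𝒳) (hloc : Gerb.LocSurjHom J (FibCat.toSelf 𝒳)) (z x : 𝒳.obj)
    (h : 𝒳.p.obj z ⟶ 𝒳.p.obj x) :
    ∃ R ∈ J (𝒳.p.obj z), ∀ (z₀ : 𝒳.obj) (π : z₀ ⟶ z), R (𝒳.p.map π) →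
      ∃ ψ : z₀ ⟶ x, 𝒳.p.map ψ = 𝒳.p.map π ≫ h := by
  obtain ⟨xh, l, hl⟩ := FC16.exists_lift hst.1 (x := x) rfl h
  have e : 𝒳.p.obj xh = 𝒳.p.obj z := IsHomLift.domain_eq 𝒳.p h l
  obtain ⟨R, hR, hR'⟩ := hloc z xh (show (𝒳.p.obj z ⟶ 𝒳.p.obj xh) from eqToHom e.symm)
    (IsHomLift.of_fac' (𝟭 C) _ _ rfl e (by simp))
  refine ⟨R, hR, fun z₀ π hπ => ?_⟩
  obtain ⟨z₁, φ, ψ, hφ, hψ, heq⟩ := hR' (𝒳.p.map π) hπ
  haveI := hφ
  haveI := lift_of_map π rfl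
  obtain ⟨i, -, hi⟩ := FC16.exists_iso_of_lifts hst.1 (𝒳.p.map π) π φ
  refine ⟨i.hom ≫ ψ ≫ l, ?_⟩
  have e1 : 𝒳.p.map l = eqToHom e ≫ h := by
    haveI := hl
    simpa using IsHomLift.fac' 𝒳.p h l
  have e2 : 𝒳.p.map φ ≫ eqToHom e.symm = 𝒳.p.map ψ := heq
  rw [← hi, Functor.map_comp, Functor.map_comp, Functor.map_comp, e1, ← e2]
  simp

theorem eval_bijective (hloc : Gerb.LocSurjHom J (FibCat.toSelf 𝒳)) (hcomm : ∀ (x : 𝒳.obj) (α β : Gerb.AutO x), α * β = β * α)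
    (x : 𝒳.obj) : Function.Bijective fun s : family hst.1 (𝒳.p.obj x) => s.1 x (𝟙 _) := by
  refine ⟨fun s t hst' => family_ext hst.1 fun z h => ?_, fun α => ?_⟩
  · obtain ⟨R, hR, hR'⟩ := exists_local_lift hst hloc z x h
    refine ext_of_cover hst hR _ _ fun z₀ π hπ => ?_
    obtain ⟨ψ, hψ⟩ := hR' z₀ π hπ
    have key : ∀ r : family hst.1 (𝒳.p.obj x), res hst.1 π (r.1 z h) = res hst.1 ψ (r.1 x (𝟙 _)) := fun r => by
      rw [← r.2, ← r.2, hψ, Category.comp_id]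
    rw [key, key]
    exact congrArg _ hst'
  · choose R hR hR' using fun z (h : 𝒳.p.obj z ⟶ 𝒳.p.obj x) => exists_local_lift hst hloc z x h
    choose t ht using fun z (h : 𝒳.p.obj z ⟶ 𝒳.p.obj x) =>
      exists_aut_glue hst (hR z h) (fun z₀ π hπ => res hst.1 (hR' z h z₀ π hπ).choose α)
        (fun z₁ z₀ k π hπ hπ' => by
          rw [← res_comp]
          refine res_congr hst.1 hcomm _ _ ?_ α
          rw [(hR' z h z₁ (k ≫ π) hπ').choose_spec, Functor.map_comp, Functor.map_comp,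
            (hR' z h z₀ π hπ).choose_spec, Category.assoc])
    have spec : ∀ z h z₀ (π : z₀ ⟶ z) (ψ : z₀ ⟶ x), 𝒳.p.map ψ = 𝒳.p.map π ≫ h →
        res hst.1 π (t z h) = res hst.1 ψ α := by
      intro z h z₀ π ψ e
      refine ext_of_cover hst (J.pullback_stable (𝒳.p.map π) (hR z h)) _ _ fun z₁ π' hπ' => ?_
      have hm : R z h (𝒳.p.map (π' ≫ π)) := by simpa using hπ'
      rw [← res_comp, ← res_comp, ht z h z₁ _ hm]
      refine res_congr hst.1 hcomm _ _ ?_ α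
      rw [(hR' z h z₁ _ hm).choose_spec]
      simp [e]
    refine ⟨⟨t, fun z' z φ h => ?_⟩, ?_⟩
    · refine ext_of_cover hst (hR z' (𝒳.p.map φ ≫ h)) _ _ fun z₀ π hπ => ?_
      obtain ⟨ψ, hψ⟩ := hR' z' (𝒳.p.map φ ≫ h) z₀ π hπ
      rw [← res_comp, spec z' _ z₀ π ψ hψ, spec z h z₀ (π ≫ φ) ψ (by simp [hψ])]
    · have := spec x (𝟙 _) x (𝟙 x) (𝟙 x) (by simp)
      rwa [res_id, res_id] at this

end Groth.Agent.GerbAbs.Band
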