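import Groth.Agent.Lib.AutGrp14.Basic

/-! The automorphism group of a point computed in the diagonal relative to a scheme. -/

universe u

open CategoryTheory CategoryTheory.Functor CategoryTheory.Limits AlgebraicGeometry Opposite

set_option linter.style.haveILetI false
set_option linter.unusedSectionVars false
set_option backward.isDefEq.respectTransparency false
set_option backward.isDefEq.respectTransparency.types false

namespace Groth.Agent.GerbAbs.AutSection

open Groth.Agent.FC16 Groth.Agent.StAlg Groth.Agent.AutGrp14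

variable {S : Scheme.{u}} {𝒳 : AlgSt.Cat S} {V : Over S}

theorem hom_ext {a b : (FibCat.overCat V).obj} {T T' : Over S} (f : T ⟶ T') (φ ψ : a ⟶ b)
    [(FibCat.overCat V).p.IsHomLift f φ] [(FibCat.overCat V).p.IsHomLift f ψ] : φ = ψ :=
  Over.OverMorphism.ext
    ((IsHomLift.fac' (FibCat.overCat V).p f φ).trans (IsHomLift.fac' (FibCat.overCat V).p f ψ).symm)

variable (π : 𝒳 ⥤ᵇ FibCat.overCat V)

/-- forgetting `V` -/
noncomputable def toAbs : FibCat.fp π π ⥤ᵇ FibCat.fp (FibCat.toSelf 𝒳) (FibCat.toSelf 𝒳) :=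
  FibCat.fpLift (FibCat.fpFst π π) (FibCat.fpSnd π π) (eqToIso (selfOver_functor_eq _ _))

theorem toAbs_faithful : (toAbs π).toFunctor.Faithful :=
  ⟨fun {a b φ ψ} h => fp_hom_ext (congrArg (fun t => t.hom.fst) h) (congrArg (fun t => t.hom.snd) h)⟩

theorem toAbs_full : (toAbs π).toFunctor.Full := ⟨fun {a b} φ => by
  let f := (FibCat.fp (FibCat.toSelf 𝒳) (FibCat.toSelf 𝒳)).p.map φ
  let φ₁ : a.obj.fst ⟶ b.obj.fst := φ.hom.fst
  let φ₂ : a.obj.snd ⟶ b.obj.snd := φ.hom.snd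
  let T := (FibCat.fp π π).p.obj a
  let T' := (FibCat.fp π π).p.obj b
  let f' : T ⟶ T' := f
  haveI hφ : (FibCat.fp (FibCat.toSelf 𝒳) (FibCat.toSelf 𝒳)).p.IsHomLift f' φ := IsHomLift.map _ φ
  haveI : 𝒳.p.IsHomLift f' φ₁ := isHomLift_fst f' φ
  haveI : 𝒳.p.IsHomLift f' φ₂ := isHomLift_snd f' φ
  haveI h₁ := iso_lift a (U := T) rfl
  haveI h₂ := iso_lift b (U := T') rfl
  haveI : (FibCat.overCat V).p.IsHomLift f' (π.map φ₁) := BasedFunctor.preserves_isHomLift π f' φ₁
  haveI : (FibCat.overCat V).p.IsHomLift f' (π.map φ₂) := BasedFunctor.preserves_isHomLift π f' φ₂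
  have w : π.map φ₁ ≫ b.obj.iso.hom = a.obj.iso.hom ≫ π.map φ₂ := by
    haveI : (FibCat.overCat V).p.IsHomLift f' (π.map φ₁ ≫ b.obj.iso.hom) := by
      simpa using (inferInstance : (FibCat.overCat V).p.IsHomLift (f' ≫ 𝟙 T') (π.map φ₁ ≫ b.obj.iso.hom))
    haveI : (FibCat.overCat V).p.IsHomLift f' (a.obj.iso.hom ≫ π.map φ₂) := by
      simpa using (inferInstance : (FibCat.overCat V).p.IsHomLift (𝟙 T ≫ f') (a.obj.iso.hom ≫ π.map φ₂))
    exact hom_ext f' _ _
  exact ⟨fpHom φ₁ φ₂ w, fp_hom_ext rfl rfl⟩⟩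

/-- a property of the diagonal over `V` holds for the group of automorphisms -/
theorem prop_proj (h : FibCat.IsFibGrpd 𝒳.p) {U : Over S} (x : FibCat.overCat U ⥤ᵇ 𝒳) (G : Over U.left) [GrpObj G]
    (hG : Gerb.AutRep x (Gerb.ptsGrp U G)) {P : MorphismProperty (AlgSp.Sp S)} (hPb : PbP P)
    (hloc : AlgSp.IsLocalOnBase AlgSp.IsFppfCover P)
    (hd : AlgSt.RepByAlgSpWith P (FibCat.diag π)) : P ((AlgSp.yon S).map (proj G)) := by
  haveI := toAbs_faithful π
  haveI := toAbs_full π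
  let Δ := FibCat.diag π
  let D := FibCat.diag (FibCat.toSelf 𝒳)
  let i₁ : BasedFunctor.comp Δ (toAbs π) ≅ D := isoToFp (Iso.refl _) (Iso.refl _)
  let M := fpMap (F := BasedFunctor.comp x Δ) (G := Δ) (F' := BasedFunctor.comp x D) (G' := D)
    (a := BasedFunctor.id _) (b := BasedFunctor.id _) (s := toAbs π) (wlIso x i₁.symm) i₁.symm
  have h1 := with_fpFst (BasedFunctor.comp x Δ) hd
  have h2 : AlgSt.RepByAlgSpWith P (FibCat.fpFst (BasedFunctor.comp x D) D) :=
    (with_congr (f := FibCat.fpFst (BasedFunctor.comp x D) D) (f' := FibCat.fpFst (BasedFunctor.comp x Δ) Δ)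
      (a := M) (b := BasedFunctor.id _) (fpMap_isEquivOver _ _ isEquivOver_id isEquivOver_id) isEquivOver_id
      (Iso.refl _)).2 h1
  have h3 := (with_congr (f := FibCat.fpFst (BasedFunctor.comp x D) D)
    (f' := Stk.ofPshMap ((AlgSp.yon S).map (proj G)).hom)
    (a := BasedFunctor.comp (AlgSt.toOverCat (tot G)) (toFp x G hG)) (b := AlgSt.toOverCat U)
    (isEquivOver_comp (toOverCat_isEquivOver _) (isEquivOver_toFp x G hG h)) (toOverCat_isEquivOver U)
    (overMapIso (proj G))).1 h2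
  exact desc_of_local hloc (AlgSp.IsAlgSpace.yon_obj _) (AlgSp.IsAlgSpace.yon_obj _) _
    (repBySpWith_of_with (preIso_of_pullback hPb) h3)

end Groth.Agent.GerbAbs.AutSection
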