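import Groth.Agent.Lib.GerbAbs16.Chart
import Groth.Agent.Lib.StAlg16.SourceLocal
import Groth.Agent.Lib.StAlg16.PointsSp

/-! The diagonal of a gerbe over a scheme is flat, locally of finite presentation and surjective. -/

universe u

open CategoryTheory CategoryTheory.Functor CategoryTheory.Limits AlgebraicGeometry Opposite

set_option linter.style.haveILetI false
set_option linter.unusedSectionVars false
set_option backward.isDefEq.respectTransparency false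
set_option backward.isDefEq.respectTransparency.types false

namespace Groth.Agent.GerbAbs.Chart

open Groth.Agent.FC16 hiding overMap
open Groth.Agent.StAlg Groth.Agent.StAlg16 AlgSt

variable {S : Scheme.{u}} {𝒳 𝒜 : AlgSt.Cat S} {V : Over S}

local notation "Jf" => QuotSh.J Scheme.fppfPrecoverage S

theorem overCat_hom_ext {a b : (FibCat.overCat V).obj} {T : Over S} (φ ψ : a ⟶ b)
    (hφ : (FibCat.overCat V).p.IsHomLift (𝟙 T) φ) (hψ : (FibCat.overCat V).p.IsHomLift (𝟙 T) ψ) : φ = ψ := by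
  haveI := hφ
  haveI := hψ
  exact Over.OverMorphism.ext
    ((IsHomLift.fac' (FibCat.overCat V).p (𝟙 T) φ).trans (IsHomLift.fac' (FibCat.overCat V).p (𝟙 T) ψ).symm)

variable {π : 𝒳 ⥤ᵇ FibCat.overCat V}

/-- functors into `𝒳 ×_V 𝒳` are isomorphic as soon as their components are -/
theorem pairIso {z z' : 𝒜 ⥤ᵇ FibCat.fp π π}
    (i₁ : BasedFunctor.comp z (FibCat.fpFst π π) ≅ BasedFunctor.comp z' (FibCat.fpFst π π))
    (i₂ : BasedFunctor.comp z (FibCat.fpSnd π π) ≅ BasedFunctor.comp z' (FibCat.fpSnd π π)) : Nonempty (z ≅ z') := by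
  let F₁ : ∀ a, (z.obj a).obj.fst ≅ (z'.obj a).obj.fst := fun a => appIso i₁ a
  let F₂ : ∀ a, (z.obj a).obj.snd ≅ (z'.obj a).obj.snd := fun a => appIso i₂ a
  refine ⟨BasedNatIso.mkNatIso
    (NatIso.ofComponents (fun a => fpIsoMk (F₁ a) (F₂ a) ?_) (fun {a b} φ => fp_hom_ext
      (i₁.hom.toNatTrans.naturality φ) (i₂.hom.toNatTrans.naturality φ)))
    (fun a => @isHomLift_of_fst _ _ _ _ _ _ _ _ _ _ _ _ _ (isHomLift_appIso_hom i₁ a rfl))⟩
  haveI : 𝒳.p.IsHomLift (𝟙 (𝒜.p.obj a)) (F₁ a).hom := isHomLift_appIso_hom i₁ a rfl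
  haveI : 𝒳.p.IsHomLift (𝟙 (𝒜.p.obj a)) (F₂ a).hom := isHomLift_appIso_hom i₂ a rfl
  haveI := iso_lift (z.obj a) (U := 𝒜.p.obj a) (z.w_obj a)
  haveI := iso_lift (z'.obj a) (U := 𝒜.p.obj a) (z'.w_obj a)
  haveI : (FibCat.overCat V).p.IsHomLift (𝟙 (𝒜.p.obj a)) (π.map (F₁ a).hom) :=
    BasedFunctor.preserves_isHomLift π _ _
  haveI : (FibCat.overCat V).p.IsHomLift (𝟙 (𝒜.p.obj a)) (π.map (F₂ a).hom) :=
    BasedFunctor.preserves_isHomLift π _ _
  exact overCat_hom_ext _ _ (inferInstance : (FibCat.overCat V).p.IsHomLift (𝟙 (𝒜.p.obj a)) _) inferInstance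

/-- the hypotheses on a property needed for the diagonal -/
structure GoodQ (Q : MorphismProperty (AlgSp.Sp S)) : Prop where
  good : GoodP Q
  pb : PbP Q
  base : AlgSp.IsLocalOnBase AlgSp.IsFppfCover Q
  source : ∀ ⦃X Y Z : AlgSp.Sp S⦄, AlgSp.IsAlgSpace X → AlgSp.IsAlgSpace Y → AlgSp.IsAlgSpace Z →
    ∀ (b : X ⟶ Y) (a : Y ⟶ Z),
      (∀ k, ![AlgSp.LocP @Flat, AlgSp.LocP @LocallyOfFinitePresentation, AlgSp.IsSurjectiveMor] k b) →
        Q (b ≫ a) → Q a
  overMap : ∀ {A B : Over S} (k : A ⟶ B), Flat k.left → LocallyOfFinitePresentation k.left → Surjective k.left →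
    AlgSt.RepByAlgSpWith Q (AlgSt.overMap k)
  chart : ∀ {A : Over S} {u : FibCat.overCat A ⥤ᵇ 𝒳}, AlgSt.RepByAlgSpWith (AlgSp.LocP @Smooth) u →
    AlgSt.RepByAlgSpWith AlgSp.IsSurjectiveMor u → AlgSt.RepByAlgSpWith Q u

/-- Diagonals of gerbes over schemes. -/
theorem with_diag (h𝒳 : IsAlgStack Scheme.fppfPrecoverage 𝒳) (hπ : Gerb.IsGerbeOver Jf π)
    {Q : MorphismProperty (AlgSp.Sp S)} (hQ : GoodQ (𝒳 := 𝒳) Q) : AlgSt.RepByAlgSpWith Q (FibCat.diag π) := by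
  have gX := h𝒳.isStack.1
  have hV := isAlgStack_overCat V
  obtain ⟨U, u, hu, hus⟩ := h𝒳.atlas
  obtain ⟨h, ⟨j⟩⟩ := exists_overMap_iso (BasedFunctor.comp u π)
  obtain ⟨hh₁, hh₂, hh₃⟩ := flat_lfp_surjective h𝒳 hπ hu hus j
  obtain ⟨M, g, -, -, hls, ⟨θ⟩⟩ := exists_pair_chart h𝒳 hπ.2 hu hus j u j
  haveI := hls
  obtain ⟨W, k, l, hk₁, hk₃, hk₂, hkl⟩ := AlgSpace.exists_single_cover_lift ((AlgSp.yon S).map g)
    (T := pullback h h) (𝟙 _)
  obtain ⟨m, rfl⟩ := (AlgSp.yon S).map_surjective l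
  have hmk : m ≫ g = k := (AlgSp.yon S).map_injective (by rw [Functor.map_comp, hkl, Category.comp_id])
  -- the two projections
  let r₁ : W ⟶ U := k ≫ pullback.fst h h
  let r₂ : W ⟶ U := k ≫ pullback.snd h h
  have sq := (IsPullback.of_hasPullback h h).map (Over.forget S)
  have hfst : Flat (pullback.fst h h).left ∧ LocallyOfFinitePresentation (pullback.fst h h).left ∧
      Surjective (pullback.fst h h).left :=
    ⟨MorphismProperty.of_isPullback (P := @Flat) sq.flip hh₁,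
      MorphismProperty.of_isPullback (P := @LocallyOfFinitePresentation) sq.flip hh₂,
      MorphismProperty.of_isPullback (P := @Surjective) sq.flip hh₃⟩
  have hr₁ : AlgSt.RepByAlgSpWith Q (AlgSt.overMap r₁) := by
    have := hfst.1; have := hfst.2.1; have := hfst.2.2; have := hk₁; have := hk₂; have := hk₃
    exact hQ.overMap r₁ (inferInstanceAs (Flat (k.left ≫ (pullback.fst h h).left)))
      (inferInstanceAs (LocallyOfFinitePresentation (k.left ≫ (pullback.fst h h).left)))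
      (inferInstanceAs (Surjective (k.left ≫ (pullback.fst h h).left)))
  let uπ := BasedFunctor.comp u π
  let 𝒬 := FibCat.fp uπ uπ
  have g𝒬 : FibCat.IsFibGrpd 𝒬.p := fp_isFibGrpd (overCat_isFibGrpd U) (overCat_isFibGrpd U) (overCat_isFibGrpd V) _ _
  have gP : FibCat.IsFibGrpd (FibCat.fp π π).p := fp_isFibGrpd gX gX (overCat_isFibGrpd V) _ _
  haveI := idFun_full (𝒳 := FibCat.overCat V)
  haveI := idFun_faithful (𝒳 := FibCat.overCat V)
  let σ : FibCat.overCat (pullback h h) ⥤ᵇ 𝒬 := BasedFunctor.comp (overPullback (pullback.condition (f := h) (g := h)))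
    (fpMap (F := AlgSt.overMap h) (G := AlgSt.overMap h) (F' := uπ) (G' := uπ) (a := BasedFunctor.id _)
      (b := BasedFunctor.id _) (s := BasedFunctor.id _) j j)
  have hσ : FibCat.IsEquivOver σ := isEquivOver_comp (overPullback_isEquivOver (IsPullback.of_hasPullback h h))
    (fpMap_isEquivOver _ _ isEquivOver_id isEquivOver_id)
  let k' : FibCat.overCat W ⥤ᵇ 𝒬 := BasedFunctor.comp (AlgSt.overMap k) σ
  have hk' : AlgSt.RepByAlgSpWith Q k' := with_equiv_comp hσ (hQ.overMap k hk₁ hk₂ hk₃)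
  let P₀ : 𝒬 ⥤ᵇ FibCat.fp π π := pair (Iso.refl uπ) (Iso.refl uπ)
  let Δ := FibCat.diag π
  have hΔ : AlgSt.RepByAlgSp1 Δ := StAlg.rep1_diag h𝒳 hV π
  have h0 : AlgSt.RepByAlgSpWith Q (BasedFunctor.comp (FibCat.fpFst P₀ Δ) (FibCat.fpFst uπ uπ)) :=
    (with_congr (f := FibCat.fpFst u u)
      (f' := BasedFunctor.comp (FibCat.fpFst P₀ Δ) (FibCat.fpFst uπ uπ))
      (a := diagFun (Iso.refl uπ) (Iso.refl uπ)) (b := BasedFunctor.id _) (diagFun_isEquivOver _ _) isEquivOver_id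
      (Iso.refl _)).1 (with_fpFst u (hQ.chart hu hus))
  -- pull back to `W`
  let F₀ := FibCat.fpFst P₀ Δ
  have hfp0 : FibCat.IsFibGrpd (FibCat.fp P₀ Δ).p := fp_isFibGrpd g𝒬 gX gP _ _
  let ρ₁ : BasedFunctor.comp k' (FibCat.fpFst uπ uπ) ≅ AlgSt.overMap r₁ := overMapComp k (pullback.fst h h)
  let ρ₂ : BasedFunctor.comp k' (FibCat.fpSnd uπ uπ) ≅ AlgSt.overMap r₂ := overMapComp k (pullback.snd h h)
  have h1 : AlgSt.RepByAlgSpWith Q (BasedFunctor.comp (FibCat.fpFst k' F₀) (AlgSt.overMap r₁)) :=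
    with_of_iso (wrIso (FibCat.fpIso k' F₀).symm (FibCat.fpFst uπ uπ) ≪≫ wlIso (FibCat.fpFst k' F₀) ρ₁)
      (with_comp hQ.good (fp_isFibGrpd (overCat_isFibGrpd W) hfp0 g𝒬 _ _) hfp0 (with_fpSnd _ hk') h0)
  have h2 : AlgSt.RepByAlgSpWith Q (BasedFunctor.comp (FibCat.fpFst (BasedFunctor.comp k' P₀) Δ) (AlgSt.overMap r₁)) :=
    (with_congr (f := BasedFunctor.comp (FibCat.fpFst (BasedFunctor.comp k' P₀) Δ) (AlgSt.overMap r₁))
      (f' := BasedFunctor.comp (FibCat.fpFst k' F₀) (AlgSt.overMap r₁)) (a := pasteL k' P₀ Δ) (b := BasedFunctor.id _)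
      (pasteL_isEquivOver _ _ _) isEquivOver_id (Iso.refl _)).2 h1
  let zG : FibCat.overCat U ⥤ᵇ FibCat.fp π π := FibCat.fpLift u u (Iso.refl _)
  let θ' : BasedFunctor.comp (AlgSt.overMap r₂) u ≅ BasedFunctor.comp (AlgSt.overMap r₁) u :=
    wrIso (eqToIso (congrArg AlgSt.overMap (show r₂ = m ≫ g ≫ pullback.snd h h by
      simp only [r₂, ← hmk, Category.assoc])) ≪≫ (overMapComp m (g ≫ pullback.snd h h)).symm) u ≪≫
    wlIso (AlgSt.overMap m) θ ≪≫
    wrIso (overMapComp m (g ≫ pullback.fst h h) ≪≫ eqToIso (congrArg AlgSt.overMap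
      (show m ≫ g ≫ pullback.fst h h = r₁ by simp only [r₁, ← hmk, Category.assoc]))) u
  obtain ⟨iz⟩ := pairIso (z := BasedFunctor.comp (AlgSt.overMap r₁) zG) (z' := BasedFunctor.comp k' P₀)
    (wrIso ρ₁.symm u) (θ'.symm ≪≫ wrIso ρ₂.symm u)
  haveI := idFun_full (𝒳 := FibCat.fp π π)
  haveI := idFun_faithful (𝒳 := FibCat.fp π π)
  have h3 : AlgSt.RepByAlgSpWith Q
      (BasedFunctor.comp (FibCat.fpFst (BasedFunctor.comp (AlgSt.overMap r₁) zG) Δ) (AlgSt.overMap r₁)) :=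
    (with_congr (f := BasedFunctor.comp (FibCat.fpFst (BasedFunctor.comp k' P₀) Δ) (AlgSt.overMap r₁))
      (f' := BasedFunctor.comp (FibCat.fpFst (BasedFunctor.comp (AlgSt.overMap r₁) zG) Δ) (AlgSt.overMap r₁))
      (a := fpMap (a := BasedFunctor.id _) (b := BasedFunctor.id _) (s := BasedFunctor.id (FibCat.fp π π))
        (F := BasedFunctor.comp (AlgSt.overMap r₁) zG) (G := Δ) (F' := BasedFunctor.comp k' P₀) (G' := Δ)
        iz.symm (Iso.refl _))
      (b := BasedFunctor.id _) (fpMap_isEquivOver _ _ isEquivOver_id isEquivOver_id) isEquivOver_id (Iso.refl _)).1 h2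
  let FG := FibCat.fpFst zG Δ
  have h4 : AlgSt.RepByAlgSpWith Q (BasedFunctor.comp (FibCat.fpFst (AlgSt.overMap r₁) FG) (AlgSt.overMap r₁)) :=
    (with_congr (f := BasedFunctor.comp (FibCat.fpFst (BasedFunctor.comp (AlgSt.overMap r₁) zG) Δ) (AlgSt.overMap r₁))
      (f' := BasedFunctor.comp (FibCat.fpFst (AlgSt.overMap r₁) FG) (AlgSt.overMap r₁))
      (a := pasteL (AlgSt.overMap r₁) zG Δ) (b := BasedFunctor.id _) (pasteL_isEquivOver _ _ _) isEquivOver_id
      (Iso.refl _)).1 h3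
  have h5 : AlgSt.RepByAlgSpWith Q (BasedFunctor.comp (FibCat.fpSnd (AlgSt.overMap r₁) FG) FG) :=
    with_of_iso (FibCat.fpIso (AlgSt.overMap r₁) FG) h4
  have hrr : ∀ i, AlgSt.RepByAlgSpWith
      (![AlgSp.LocP @Flat, AlgSp.LocP @LocallyOfFinitePresentation, AlgSp.IsSurjectiveMor] i)
      (FibCat.fpSnd (AlgSt.overMap r₁) FG) := by
    have := hfst.1; have := hfst.2.1; have := hfst.2.2; have := hk₁; have := hk₂; have := hk₃
    intro i
    fin_cases i
    · exact with_fpSnd _ (with_locP_overMap r₁ (inferInstanceAs (Flat (k.left ≫ (pullback.fst h h).left))))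
    · exact with_fpSnd _ (with_locP_overMap r₁
        (inferInstanceAs (LocallyOfFinitePresentation (k.left ≫ (pullback.fst h h).left))))
    · exact with_fpSnd _ (with_surjective_overMap r₁ (inferInstanceAs (Surjective (k.left ≫ (pullback.fst h h).left))))
  have gG := fp_isFibGrpd (overCat_isFibGrpd U) gX gP zG Δ
  have hFG : AlgSt.RepByAlgSpWith Q FG :=
    with_of_comp_of_source hQ.pb _ (fun i => by fin_cases i <;> first | exact goodP_locP | exact goodP_surjective)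
      hQ.source (fp_isFibGrpd (overCat_isFibGrpd W) gG (overCat_isFibGrpd U) _ _) gG (overCat_isFibGrpd U)
      (rep1_fpFst zG hΔ) (repByAlgSp1_of_with (hrr 0)) hrr h5
  refine with_of_fpFst_locally_essSurj hQ.pb hQ.base gX gP hΔ (g := zG) (fun T y => ?_) hFG
  -- `zG` is locally essentially surjective
  obtain ⟨T', κ, a, hκ₁, hκ₂, hκ₃, ⟨ia⟩⟩ := exists_lift_cover gX (overCat_isFibGrpd U) hu hus
    (BasedFunctor.comp y (FibCat.fpFst π π))
  obtain ⟨R, hR, hR'⟩ := exists_local_iso gX hπ.2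
    (BasedFunctor.comp (AlgSt.overMap κ) (BasedFunctor.comp y (FibCat.fpSnd π π)))
    (BasedFunctor.comp (AlgSt.overMap κ) (BasedFunctor.comp y (FibCat.fpFst π π)))
    (wlIso (BasedFunctor.comp (AlgSt.overMap κ) y) (FibCat.fpIso π π).symm)
  let R₀ : Sieve T :=
    { arrows := fun {T''} f => ∃ z : FibCat.overCat T'' ⥤ᵇ FibCat.overCat U,
        Nonempty (BasedFunctor.comp z zG ≅ BasedFunctor.comp (AlgSt.overMap f) y)
      downward_closed := fun {T₁ T₂} f ⟨z, ⟨iz⟩⟩ q => ⟨BasedFunctor.comp (AlgSt.overMap q) z,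
        ⟨wlIso (AlgSt.overMap q) iz ≪≫ wrIso (overMapComp q f) y⟩⟩ }
  refine ⟨R₀, ?_, fun T'' f hf => hf⟩
  haveI := hκ₁; haveI := hκ₂; haveI := hκ₃
  refine (Jf).transitive (mem_of_cover κ (Sieve.le_generate (Presieve.singleton κ) _ _ (Presieve.singleton_self κ)))
    _ fun T₁ f hf => ?_
  obtain ⟨T₂, q, _, ⟨⟩, rfl⟩ := hf
  rw [Sieve.pullback_comp]
  refine (Jf).pullback_stable q ((Jf).superset_covering (fun T₃ f hf => ?_) hR)
  obtain ⟨i⟩ := hR' f hf
  refine ⟨BasedFunctor.comp (AlgSt.overMap f) a, ?_⟩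
  let e₁ : BasedFunctor.comp (BasedFunctor.comp (AlgSt.overMap f) a) u ≅
      BasedFunctor.comp (BasedFunctor.comp (AlgSt.overMap (f ≫ κ)) y) (FibCat.fpFst π π) :=
    wlIso (AlgSt.overMap f) ia.symm ≪≫ wrIso (overMapComp f κ) (BasedFunctor.comp y (FibCat.fpFst π π))
  exact pairIso e₁ (e₁ ≪≫ wrIso (overMapComp f κ).symm (BasedFunctor.comp y (FibCat.fpFst π π)) ≪≫ i.symm ≪≫
    wrIso (overMapComp f κ) (BasedFunctor.comp y (FibCat.fpSnd π π)))

end Groth.Agent.GerbAbs.Chart
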