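import Groth.Agent.Lib.GerbAbs16.Banding
import Groth.Agent.Lib.GerbAbs16.FFEss
import Groth.Prelude.Def_StGerb2

/-! Morphisms of gerbes bijective on automorphism groups are fully faithful. -/

universe v u

open CategoryTheory CategoryTheory.Functor Opposite

set_option autoImplicit false
set_option linter.style.haveILetI false
set_option linter.unusedSimpArgs false
set_option linter.unusedSectionVars false
set_option backward.isDefEq.respectTransparency false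
set_option backward.isDefEq.respectTransparency.types false

namespace Groth.Agent.GerbAbs

open Groth.Agent.FC16

variable {C : Type u} [Category.{v} C] {J : GrothendieckTopology C} {𝒳 𝒴 : BasedCategory.{v, max u v} C}
  (φ : 𝒳 ⥤ᵇ 𝒴)

theorem p_map_map {a b : 𝒳.obj} (f : a ⟶ b) :
    𝒴.p.map (φ.map f) = eqToHom (φ.w_obj a) ≫ 𝒳.p.map f ≫ eqToHom (φ.w_obj b).symm :=
  IsHomLift.fac' 𝒴.p (𝒳.p.map f) (φ.map f)

variable (hX : FibCat.IsFibGrpd 𝒳.p) (hY : FibCat.IsFibGrpd 𝒴.p)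

theorem autMap_res {z' z : 𝒳.obj} (f : z' ⟶ z) (α : Gerb.AutO z) :
    Gerb.autMap φ z' (Band.res hX f α) = Band.res hY (φ.map f) (Gerb.autMap φ z α) := by
  refine Band.res_unique hY _ _ _ ?_
  change φ.map (Band.res hX f α).hom.1 ≫ φ.map f = φ.map f ≫ φ.map α.hom.1
  rw [← map_comp', Band.res_spec, map_comp']

include hX hY in
/-- two lifts with the same base agreeing after `φ` are equal -/
theorem eq_of_map_eq {w x : 𝒳.obj} (χ χ' : w ⟶ x) (hb : Function.Injective (Gerb.autMap φ w))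
    (e : 𝒳.p.map χ = 𝒳.p.map χ') (h : φ.map χ = φ.map χ') : χ = χ' := by
  haveI := Band.lift_of_map χ' rfl
  haveI := Band.lift_of_map χ e
  haveI := FC16.isStronglyCartesian hX (𝒳.p.map χ') χ'
  haveI := IsCartesian.map_isHomLift 𝒳.p (𝒳.p.map χ') χ' χ
  obtain ⟨δ, hδ⟩ := Band.exists_autO hX (IsCartesian.map 𝒳.p (𝒳.p.map χ') χ' χ)
    (by simpa using IsHomLift.fac' 𝒳.p (𝟙 (𝒳.p.obj w)) (IsCartesian.map 𝒳.p (𝒳.p.map χ') χ' χ))
  have hc : δ.hom.1 ≫ χ' = χ := by rw [hδ]; exact IsCartesian.fac 𝒳.p _ _ _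
  have h1 : Gerb.autMap φ w δ = Band.res hY (φ.map χ') 1 := by
    refine Band.res_unique hY _ _ _ ?_
    change φ.map δ.hom.1 ≫ φ.map χ' = φ.map χ' ≫ 𝟙 _
    rw [Category.comp_id, ← map_comp', hc, h]
  rw [Band.res_one, ← map_one (Gerb.autMap φ w)] at h1
  rw [← hc, hb h1]
  exact Category.id_comp χ'

variable (hstX : Stk.IsPrestack J 𝒳) (hstY : Stk.IsPrestack J 𝒴) (hloc : Gerb.LocSurjHom J (FibCat.toSelf 𝒳))

include hstX hstY in
theorem bijective_of_cover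
    (hcov : ∀ z : 𝒳.obj, ∃ R ∈ J (𝒳.p.obj z), ∀ (z₀ : 𝒳.obj) (π : z₀ ⟶ z), R (𝒳.p.map π) →
      Function.Bijective (Gerb.autMap φ z₀)) (z : 𝒳.obj) : Function.Bijective (Gerb.autMap φ z) := by
  obtain ⟨R, hR, hR'⟩ := hcov z
  refine ⟨fun α β h => Band.ext_of_cover hstX hR α β fun z₀ π hπ => (hR' z₀ π hπ).1 ?_, fun β => ?_⟩
  · rw [autMap_res φ hstX.1 hstY.1, autMap_res φ hstX.1 hstY.1, h]
  · choose a ha using fun z₀ π hπ => (hR' z₀ π hπ).2 (Band.res hstY.1 (φ.map π) β)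
    obtain ⟨α, hα⟩ := Band.exists_aut_glue hstX hR a (fun z₁ z₀ k π h h' => (hR' z₁ _ h').1 (by
      rw [ha, autMap_res φ hstX.1 hstY.1, ha, map_comp', Band.res_comp]))
    refine ⟨α, Band.ext_of_cover hstY (J.pullback_stable (eqToHom (φ.w_obj z)) hR) _ _ fun w π hπ => ?_⟩
    obtain ⟨z₀, l, hl⟩ := FC16.exists_lift hstX.1 (x := z) rfl (𝒴.p.map π ≫ eqToHom (φ.w_obj z))
    haveI := hl
    haveI : 𝒴.p.IsHomLift (𝒴.p.map π ≫ eqToHom (φ.w_obj z)) π :=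
      IsHomLift.of_fac' 𝒴.p _ _ rfl (φ.w_obj z) (by simp)
    obtain ⟨i, -, hi⟩ := FC16.exists_iso_of_lifts hstY.1 (𝒴.p.map π ≫ eqToHom (φ.w_obj z)) π (φ.map l)
    have hl' : R (𝒳.p.map l) := by
      have e := IsHomLift.fac' 𝒳.p (𝒴.p.map π ≫ eqToHom (φ.w_obj z)) l
      rw [e]
      simpa using R.downward_closed hπ (eqToHom (IsHomLift.domain_eq 𝒳.p (𝒴.p.map π ≫ eqToHom (φ.w_obj z)) l))
    rw [← hi, Band.res_comp, Band.res_comp, ← autMap_res φ hstX.1 hstY.1, hα z₀ l hl', ha]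

variable (hbij : ∀ z : 𝒳.obj, Function.Bijective (Gerb.autMap φ z))

include hstX hstY hloc hbij in
theorem exists_vertical {x x' : 𝒳.obj} (e : 𝒳.p.obj x' = 𝒳.p.obj x) (b : φ.obj x ⟶ φ.obj x')
    [𝒴.p.IsHomLift (𝟙 (𝒳.p.obj x)) b] : ∃ μ : x ⟶ x', φ.map μ = b := by
  haveI := FC16.isFibered hstY.1
  obtain ⟨R, hR, hR'⟩ := Band.exists_local_lift hstX hloc x x' (eqToHom e.symm)
  have hb : 𝒴.p.map b = eqToHom ((φ.w_obj x).trans ((φ.w_obj x').trans e).symm) := by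
    simpa using IsHomLift.fac' 𝒴.p (𝟙 (𝒳.p.obj x)) b
  have key : ∀ (w : 𝒳.obj) (π : w ⟶ x), R (𝒳.p.map π) →
      ∃ χ : w ⟶ x', 𝒳.p.map χ = 𝒳.p.map π ≫ eqToHom e.symm ∧ φ.map χ = φ.map π ≫ b := by
    intro w π hπ
    obtain ⟨ψ, hψ⟩ := hR' w π hπ
    haveI := Band.lift_of_map (φ.map ψ) rfl
    haveI := FC16.isStronglyCartesian hstY.1 (𝒴.p.map (φ.map ψ)) (φ.map ψ)
    haveI := Band.lift_of_map (φ.map π ≫ b) (h := 𝒴.p.map (φ.map ψ)) (by
      rw [Functor.map_comp, hb, p_map_map, p_map_map, hψ]; simp)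
    haveI := IsCartesian.map_isHomLift 𝒴.p (𝒴.p.map (φ.map ψ)) (φ.map ψ) (φ.map π ≫ b)
    obtain ⟨δ', hδ'⟩ := Band.exists_autO hstY.1 (IsCartesian.map 𝒴.p (𝒴.p.map (φ.map ψ)) (φ.map ψ) (φ.map π ≫ b))
      (by simpa using IsHomLift.fac' 𝒴.p (𝟙 (𝒴.p.obj (φ.obj w)))
            (IsCartesian.map 𝒴.p (𝒴.p.map (φ.map ψ)) (φ.map ψ) (φ.map π ≫ b)))
    obtain ⟨δ, hδ⟩ := (hbij w).2 δ'
    refine ⟨δ.hom.1 ≫ ψ, by rw [Functor.map_comp, Band.map_val, Category.id_comp, hψ], ?_⟩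
    rw [map_comp', ← Gerb.autMap_hom_val, hδ, hδ']
    exact IsCartesian.fac 𝒴.p _ _ _
  choose m hm₁ hm₂ using key
  obtain ⟨μ, hμ, hμ'⟩ := exists_glue hstX hR (x := x) (y := x') rfl e
    (fun w π h => m w π (by simpa using h)) (fun w π h => by simp [hm₁]) (fun w' w k π h h' => by
      refine eq_of_map_eq φ hstX.1 hstY.1 _ _ (hbij w').1 ?_ ?_
      · rw [hm₁, Functor.map_comp, Functor.map_comp, hm₁, Category.assoc]
      · rw [hm₂, map_comp', map_comp', hm₂, Category.assoc])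
  haveI := hμ
  haveI : 𝒴.p.IsHomLift (𝟙 (𝒳.p.obj x)) (φ.map μ) := inferInstance
  refine ⟨μ, StAlg16.hom_ext_of_cover hstY hR (φ.map μ) b fun w π V g hg hπ => ?_⟩
  haveI := hπ
  obtain ⟨z₀, l, hl⟩ := FC16.exists_lift hstX.1 (x := x) rfl g
  haveI := hl
  obtain ⟨i, -, hi⟩ := FC16.exists_iso_of_lifts hstY.1 g π (φ.map l)
  have hl' : R (𝒳.p.map l ≫ eqToHom rfl) := by
    rw [IsHomLift.fac' 𝒳.p g l]
    simpa using R.downward_closed hg (eqToHom (IsHomLift.domain_eq 𝒳.p g l))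
  rw [← hi, Category.assoc, Category.assoc, ← map_comp', hμ' z₀ l hl', hm₂]

include hstX hstY hloc hbij in
theorem full_of_bijective : φ.toFunctor.Full where
  map_surjective {x x'} g := by
    let h : 𝒳.p.obj x ⟶ 𝒳.p.obj x' := eqToHom (φ.w_obj x).symm ≫ 𝒴.p.map g ≫ eqToHom (φ.w_obj x')
    obtain ⟨x'', l, hl⟩ := FC16.exists_lift hstX.1 (x := x') rfl h
    haveI := hl
    haveI := FC16.isStronglyCartesian hstY.1 h (φ.map l)
    haveI : 𝒴.p.IsHomLift h g := IsHomLift.of_fac' 𝒴.p _ _ (φ.w_obj x) (φ.w_obj x') (by simp [h])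
    haveI := IsCartesian.map_isHomLift 𝒴.p h (φ.map l) g
    obtain ⟨μ, hμ⟩ := exists_vertical φ hstX hstY hloc hbij (x := x) (x' := x'')
      (IsHomLift.domain_eq 𝒳.p h l) (IsCartesian.map 𝒴.p h (φ.map l) g)
    refine ⟨μ ≫ l, ?_⟩
    rw [map_comp', hμ]
    exact IsCartesian.fac 𝒴.p h (φ.map l) g

include hstX hstY hbij in
theorem faithful_of_bijective : φ.toFunctor.Faithful where
  map_injective {x x' f f'} h :=
    eq_of_map_eq φ hstX.1 hstY.1 f f' (hbij x).1 (FC16.p_map_eq_of_map_eq φ h) h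

end Groth.Agent.GerbAbs
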