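import Groth.Agent.Lib.FC16.Descent

/-! Gluing morphisms of a prestack. -/

universe v₂ u₂ v u

open CategoryTheory CategoryTheory.Functor

set_option autoImplicit false
set_option linter.style.haveILetI false
set_option linter.unusedSimpArgs false
set_option backward.isDefEq.respectTransparency false
set_option backward.isDefEq.respectTransparency.types false

namespace Groth.Agent.GerbAbs

open Groth.Agent.FC16

variable {C : Type u} [Category.{v} C] {J : GrothendieckTopology C} {𝒳 : BasedCategory.{v₂, u₂} C}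

/-- Compatible morphisms out of the lifts of a covering sieve glue. -/
theorem exists_glue (hX : Stk.IsPrestack J 𝒳) {U : C} {R : Sieve U} (hR : R ∈ J U) {x y : 𝒳.obj}
    (hx : 𝒳.p.obj x = U) (hy : 𝒳.p.obj y = U)
    (m : ∀ (w : 𝒳.obj) (π : w ⟶ x), R (𝒳.p.map π ≫ eqToHom hx) → (w ⟶ y))
    (hm : ∀ (w : 𝒳.obj) (π : w ⟶ x) h, 𝒳.p.map (m w π h) = 𝒳.p.map π ≫ eqToHom (hx.trans hy.symm))
    (hc : ∀ (w' w : 𝒳.obj) (k : w' ⟶ w) (π : w ⟶ x) h h', m w' (k ≫ π) h' = k ≫ m w π h) :
    ∃ μ : x ⟶ y, 𝒳.p.IsHomLift (𝟙 U) μ ∧ ∀ (w : 𝒳.obj) (π : w ⟶ x) h, π ≫ μ = m w π h := by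
  haveI := isFibered hX.1
  haveI := (hX.2 R hR).1
  let s := ofObj hx
  let t := ofObj hy
  let P : ∀ a : Over U, s.obj a ⟶ x := fun a => s.map (toTerm a) ≫ (ofObjIso hx).hom
  let Q : ∀ a : Over U, t.obj a ⟶ y := fun a => t.map (toTerm a) ≫ (ofObjIso hy).hom
  haveI := ofObjIso_lift hx
  haveI := ofObjIso_lift hy
  have hP : ∀ a : Over U, 𝒳.p.IsHomLift a.hom (P a) := fun a => IsHomLift.comp_lift_id_right' (p := 𝒳.p) a.hom _ U _
  have hQ : ∀ a : Over U, 𝒳.p.IsStronglyCartesian a.hom (Q a) := fun a =>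
    haveI : 𝒳.p.IsHomLift a.hom (Q a) := IsHomLift.comp_lift_id_right' (p := 𝒳.p) a.hom _ U _
    FC16.isStronglyCartesian hX.1 _ _
  have hPR : ∀ a : (Stk.sieveCat R).obj, R (𝒳.p.map (P a.obj) ≫ eqToHom hx) := fun a => by
    haveI := hP a.obj
    have := IsHomLift.fac' 𝒳.p a.obj.hom (P a.obj)
    rw [this]
    simpa using a.property
  have hM : ∀ a : (Stk.sieveCat R).obj, 𝒳.p.IsHomLift a.obj.hom (m _ (P a.obj) (hPR a)) := fun a => by
    haveI := hP a.obj
    refine IsHomLift.of_fac' 𝒳.p _ _ (s.w_obj a.obj) hy ?_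
    rw [hm, IsHomLift.fac' 𝒳.p a.obj.hom (P a.obj)]
    simp
  let app : ∀ a : (Stk.sieveCat R).obj, s.obj a.obj ⟶ t.obj a.obj := fun a =>
    haveI := hQ a.obj; haveI := hM a; IsCartesian.map 𝒳.p a.obj.hom (Q a.obj) (m _ (P a.obj) (hPR a))
  have happ : ∀ a, 𝒳.p.IsHomLift (𝟙 a.obj.left) (app a) ∧ app a ≫ Q a.obj = m _ (P a.obj) (hPR a) := fun a =>
    haveI := hQ a.obj; haveI := hM a; ⟨IsCartesian.map_isHomLift 𝒳.p _ _ _, IsCartesian.fac 𝒳.p _ _ _⟩
  obtain ⟨α, hα⟩ := (Stk.resSieve R 𝒳).map_surjective (X := s) (Y := t)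
    { toNatTrans :=
        { app := app
          naturality := fun a b g => by
            haveI := hQ b.obj
            haveI := (happ a).1
            haveI := (happ b).1
            haveI hg : (FibCat.overCat U).p.IsHomLift g.hom.left g.hom := IsHomLift.map _ _
            haveI : 𝒳.p.IsHomLift g.hom.left (s.map g.hom) := BasedFunctor.preserves_isHomLift s _ g.hom
            haveI : 𝒳.p.IsHomLift g.hom.left (t.map g.hom) := BasedFunctor.preserves_isHomLift t _ g.hom
            change s.map g.hom ≫ app b = app a ≫ t.map g.hom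
            apply IsStronglyCartesian.ext 𝒳.p b.obj.hom (Q b.obj) g.hom.left
            have e₁ : s.map g.hom ≫ P b.obj = P a.obj := by
              simp only [P, ← Category.assoc, ← s.toFunctor.map_comp]
              congr 2
              exact Over.OverMorphism.ext (Over.w g.hom)
            have e₂ : t.map g.hom ≫ Q b.obj = Q a.obj := by
              simp only [Q, ← Category.assoc, ← t.toFunctor.map_comp]
              congr 2
              exact Over.OverMorphism.ext (Over.w g.hom)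
            rw [Category.assoc, (happ b).2, Category.assoc, e₂, (happ a).2,
              ← hc _ _ (s.map g.hom) (P b.obj) (hPR b) (by rw [e₁]; exact hPR a)]
            congr 1 }
      isHomLift' := fun a => (happ a).1 }
  have hα' : ∀ a : (Stk.sieveCat R).obj, α.toNatTrans.app a.obj = app a := fun a =>
    congrArg (fun δ => δ.toNatTrans.app a) hα
  haveI : 𝒳.p.IsHomLift (𝟙 U) (α.toNatTrans.app (Over.mk (𝟙 U))) := BasedNatTrans.isHomLift α rfl
  refine ⟨(ofObjIso hx).inv ≫ α.toNatTrans.app (Over.mk (𝟙 U)) ≫ (ofObjIso hy).hom, inferInstance, fun w π h => ?_⟩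
  have hw := IsHomLift.map 𝒳.p π
  let f : 𝒳.p.obj w ⟶ U := 𝒳.p.map π ≫ eqToHom hx
  haveI : 𝒳.p.IsHomLift f π := IsHomLift.of_fac' 𝒳.p _ _ rfl hx (by simp [f])
  let a : (Stk.sieveCat R).obj := ⟨Over.mk f, h⟩
  haveI : 𝒳.p.IsHomLift f (P a.obj) := hP a.obj
  obtain ⟨e, -, he⟩ := exists_iso_of_lifts hX.1 f π (P a.obj)
  have hπe : π = e.hom ≫ P a.obj := he.symm
  suffices key : ∀ π', π' = e.hom ≫ P a.obj → ∀ h', π' ≫ _ = m w π' h' from key π hπe h
  rintro _ rfl h'
  rw [hc _ _ e.hom (P a.obj) (hPR a) h', ← (happ a).2, ← hα' a, Category.assoc]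
  refine congrArg (e.hom ≫ ·) ?_
  change (s.map (toTerm a.obj) ≫ (ofObjIso hx).hom) ≫ _ = _ ≫ t.map (toTerm a.obj) ≫ (ofObjIso hy).hom
  rw [Category.assoc, Iso.hom_inv_id_assoc, ← Category.assoc, ← Category.assoc, α.toNatTrans.naturality]

end Groth.Agent.GerbAbs
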