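import Groth.Agent.Lib.GerbAbs16.Banding
import Groth.Prelude.Def_StGerb2

/-! Endomorphisms of a gerbe acting as conjugation on the automorphisms of one object are trivial. -/

universe v u

open CategoryTheory CategoryTheory.Functor Opposite

set_option autoImplicit false
set_option linter.style.haveILetI false
set_option linter.unusedSimpArgs false
set_option linter.unusedSectionVars false
set_option backward.isDefEq.respectTransparency false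
set_option backward.isDefEq.respectTransparency.types false

namespace Groth.Agent.GerbAbs

open Groth.Agent.FC16

variable {C : Type u} [Category.{v} C] {J : GrothendieckTopology C} {𝒳 : BasedCategory.{v, max u v} C}

/-- a morphism over an identity -/
def Vert {a b : 𝒳.obj} (f : a ⟶ b) : Prop := ∃ h : 𝒳.p.obj a = 𝒳.p.obj b, 𝒳.p.map f = eqToHom h

theorem Vert.comp {a b c : 𝒳.obj} {f : a ⟶ b} {f' : b ⟶ c} (hf : Vert f) (hf' : Vert f') : Vert (f ≫ f') := by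
  obtain ⟨h, e⟩ := hf
  obtain ⟨h', e'⟩ := hf'
  exact ⟨h.trans h', by rw [Functor.map_comp, e, e', eqToHom_trans]⟩

theorem Vert.lift {a b : 𝒳.obj} {f : a ⟶ b} (hf : Vert f) {U : C} (e : 𝒳.p.obj b = U) :
    𝒳.p.IsHomLift (𝟙 U) f := by
  obtain ⟨h, e'⟩ := hf
  exact IsHomLift.of_fac' 𝒳.p _ _ (h.trans e) e (by simp [e'])

theorem vert_iff_lift {a b : 𝒳.obj} {f : a ⟶ b} {U : C} [𝒳.p.IsHomLift (𝟙 U) f] : Vert f :=
  ⟨(IsHomLift.domain_eq 𝒳.p (𝟙 U) f).trans (IsHomLift.codomain_eq 𝒳.p (𝟙 U) f).symm, by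
    simpa using IsHomLift.fac' 𝒳.p (𝟙 U) f⟩

theorem exists_vert (hX : FibCat.IsFibGrpd 𝒳.p) {a b c : 𝒳.obj} (k : a ⟶ b) (χ : c ⟶ b)
    (h : 𝒳.p.obj c = 𝒳.p.obj a) (e : 𝒳.p.map χ = eqToHom h ≫ 𝒳.p.map k) :
    ∃ w : c ⟶ a, Vert w ∧ w ≫ k = χ := by
  haveI : 𝒳.p.IsHomLift (𝒳.p.map k) k := IsHomLift.map _ _
  haveI : 𝒳.p.IsHomLift (𝒳.p.map k) χ := IsHomLift.of_fac' 𝒳.p _ _ h rfl (by simp [e])
  haveI := FC16.isStronglyCartesian hX (𝒳.p.map k) k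
  haveI := IsCartesian.map_isHomLift 𝒳.p (𝒳.p.map k) k χ
  exact ⟨IsCartesian.map 𝒳.p (𝒳.p.map k) k χ, vert_iff_lift (U := 𝒳.p.obj a), IsCartesian.fac 𝒳.p _ _ _⟩

theorem Vert.cancel (hX : FibCat.IsFibGrpd 𝒳.p) {a b c : 𝒳.obj} {k : a ⟶ b} {f f' : c ⟶ a}
    (hf : Vert f) (hf' : Vert f') (e : f ≫ k = f' ≫ k) : f = f' := by
  haveI : 𝒳.p.IsHomLift (𝒳.p.map k) k := IsHomLift.map _ _
  haveI := FC16.isStronglyCartesian hX (𝒳.p.map k) k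
  haveI := hf.lift (U := 𝒳.p.obj a) rfl
  haveI := hf'.lift (U := 𝒳.p.obj a) rfl
  exact IsStronglyCartesian.ext 𝒳.p (𝒳.p.map k) k (𝟙 (𝒳.p.obj a)) e

variable (φ : 𝒳 ⥤ᵇ 𝒳)

theorem Vert.map {a b : 𝒳.obj} {f : a ⟶ b} (hf : Vert f) : Vert (φ.map f) := by
  haveI := hf.lift (U := 𝒳.p.obj b) rfl
  haveI : 𝒳.p.IsHomLift (𝟙 (𝒳.p.obj b)) (φ.map f) := inferInstance
  exact vert_iff_lift (U := 𝒳.p.obj b)

theorem map_comp'' {a b c : 𝒳.obj} (f : a ⟶ b) (f' : b ⟶ c) : φ.map (f ≫ f') = φ.map f ≫ φ.map f' :=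
  φ.toFunctor.map_comp _ _

theorem p_map_self {a b : 𝒳.obj} (f : a ⟶ b) :
    𝒳.p.map (φ.map f) = eqToHom (φ.w_obj a) ≫ 𝒳.p.map f ≫ eqToHom (φ.w_obj b).symm :=
  IsHomLift.fac' 𝒳.p (𝒳.p.map f) (φ.map f)

variable {x : 𝒳.obj} (g : φ.obj x ⟶ x)

/-- `g'` is the restriction of `g` along `c` -/
def Restr {z : 𝒳.obj} (c : z ⟶ x) (g' : φ.obj z ⟶ z) : Prop := Vert g' ∧ φ.map c ≫ g = g' ≫ c

theorem restr_pull {z z' : 𝒳.obj} {c : z ⟶ x} {g' : φ.obj z ⟶ z} (hg : Restr φ g c g')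
    (hX : FibCat.IsFibGrpd 𝒳.p) (k : z' ⟶ z) :
    ∃ g'' : φ.obj z' ⟶ z', g'' ≫ k = φ.map k ≫ g' ∧ Restr φ g (k ≫ c) g'' := by
  obtain ⟨⟨h, e⟩, he⟩ := hg
  obtain ⟨g'', hv, hk⟩ := exists_vert hX k (φ.map k ≫ g') (φ.w_obj z') (by
    rw [Functor.map_comp, e, p_map_self φ k]
    simp)
  refine ⟨g'', hk, hv, ?_⟩
  rw [map_comp'', Category.assoc, he, ← Category.assoc, ← hk, Category.assoc]

theorem restr_indep (hX : FibCat.IsFibGrpd 𝒳.p) (hterm : ∀ (U : C) (a b : U ⟶ 𝒳.p.obj x), a = b)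
    (hconj : ∀ (x' : 𝒳.obj) (c : x' ⟶ x) (g' : φ.obj x' ⟶ x'), 𝒳.p.IsHomLift (𝟙 (𝒳.p.obj x')) g' →
      φ.map c ≫ g = g' ≫ c → ∀ α : Gerb.AutO x', φ.map α.hom.1 ≫ g' = g' ≫ α.hom.1)
    {z : 𝒳.obj} {c c' : z ⟶ x} {g₁ g₂ : φ.obj z ⟶ z} (h₁ : Restr φ g c g₁) (h₂ : Restr φ g c' g₂) : g₂ = g₁ := by
  obtain ⟨w, hw, hw'⟩ := exists_vert hX c c' rfl (hterm _ _ _)
  haveI := hw.lift (U := 𝒳.p.obj z) rfl
  obtain ⟨α, hα⟩ := Band.exists_autO hX w (by simpa using IsHomLift.fac' 𝒳.p (𝟙 (𝒳.p.obj z)) w)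
  have hcomm := hconj z c g₁ (h₁.1.lift rfl) h₁.2 α
  rw [hα] at hcomm
  refine Vert.cancel hX h₂.1 h₁.1 (k := c') ?_
  rw [← h₂.2, ← hw', map_comp'', Category.assoc, h₁.2, ← Category.assoc, hcomm, Category.assoc]

theorem exists_vert_inverse (hX : FibCat.IsFibGrpd 𝒳.p) (hst : Stk.IsPrestack J 𝒳)
    (hloc : Gerb.LocSurjHom J (FibCat.toSelf 𝒳)) (hterm : ∀ (U : C) (a b : U ⟶ 𝒳.p.obj x), a = b)
    (term : ∀ U : C, U ⟶ 𝒳.p.obj x) (hg : Vert g)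
    (hconj : ∀ (x' : 𝒳.obj) (c : x' ⟶ x) (g' : φ.obj x' ⟶ x'), 𝒳.p.IsHomLift (𝟙 (𝒳.p.obj x')) g' →
      φ.map c ≫ g = g' ≫ c → ∀ α : Gerb.AutO x', φ.map α.hom.1 ≫ g' = g' ≫ α.hom.1) :
    ∃ ρ : ∀ y : 𝒳.obj, φ.obj y ⟶ y,
      (∀ y, IsIso (ρ y) ∧ 𝒳.p.IsHomLift (𝟙 (𝒳.p.obj y)) (ρ y)) ∧
      (∀ (y y' : 𝒳.obj) (f : y ⟶ y'), 𝒳.p.IsHomLift (𝟙 (𝒳.p.obj y)) f → φ.map f ≫ ρ y' = ρ y ≫ f) := by
  have hg0 : Restr φ g (𝟙 x) g := ⟨hg, by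
    rw [show φ.map (𝟙 x) = 𝟙 (φ.obj x) from φ.toFunctor.map_id x, Category.id_comp, Category.comp_id]⟩
  have step : ∀ y : 𝒳.obj, ∃ (R : Sieve (𝒳.p.obj y)) (_ : R ∈ J (𝒳.p.obj y)) (ρ : φ.obj y ⟶ y),
      𝒳.p.IsHomLift (𝟙 (𝒳.p.obj y)) ρ ∧
      ∀ (w : 𝒳.obj) (π : w ⟶ φ.obj y) (_ : R (𝒳.p.map π ≫ eqToHom (φ.w_obj y))) (z : 𝒳.obj) (l : z ⟶ y)
        (c : z ⟶ x) (i : w ⟶ φ.obj z) (g' : φ.obj z ⟶ z),
        Vert i → Restr φ g c g' → i ≫ φ.map l = π → π ≫ ρ = i ≫ g' ≫ l := by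
    intro y
    obtain ⟨R, hR, hR'⟩ := Band.exists_local_lift hst hloc y x (term _)
    have key : ∀ (w : 𝒳.obj) (π : w ⟶ φ.obj y), R (𝒳.p.map π ≫ eqToHom (φ.w_obj y)) →
        ∃ (m : w ⟶ y) (z : 𝒳.obj) (l : z ⟶ y) (c : z ⟶ x) (i : w ⟶ φ.obj z) (g' : φ.obj z ⟶ z),
          Vert i ∧ Restr φ g c g' ∧ i ≫ φ.map l = π ∧ m = i ≫ g' ≫ l := by
      intro w π hπ
      obtain ⟨z, l, hl⟩ := FC16.exists_lift hX (x := y) rfl (𝒳.p.map π ≫ eqToHom (φ.w_obj y))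
      haveI := hl
      have e : 𝒳.p.obj z = 𝒳.p.obj w := IsHomLift.domain_eq 𝒳.p (𝒳.p.map π ≫ eqToHom (φ.w_obj y)) l
      have el := IsHomLift.fac' 𝒳.p (𝒳.p.map π ≫ eqToHom (φ.w_obj y)) l
      obtain ⟨c, -⟩ := hR' z l (by
        rw [el]
        simpa using R.downward_closed hπ (eqToHom e))
      obtain ⟨g', -, hg'⟩ := restr_pull φ g hg0 hX c
      rw [Category.comp_id] at hg'
      obtain ⟨i, hi, hi'⟩ := exists_vert hX (φ.map l) π (e.symm.trans (φ.w_obj z).symm) (by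
        rw [p_map_self φ l, el]
        simp)
      exact ⟨_, z, l, c, i, g', hi, hg', hi', rfl⟩
    choose m z₁ l₁ c₁ i₁ g₁ hi₁ hg₁ he₁ hm₁ using key
    have uniq : ∀ w π h (z : 𝒳.obj) (l : z ⟶ y) (c : z ⟶ x) (i : w ⟶ φ.obj z) (g' : φ.obj z ⟶ z),
        Vert i → Restr φ g c g' → i ≫ φ.map l = π → m w π h = i ≫ g' ≫ l := by
      intro w π h z l c i g' hi hg' he
      obtain ⟨hi0, hie⟩ := hi
      obtain ⟨hi1, hie1⟩ := hi₁ w π h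
      have hz : 𝒳.p.obj z = 𝒳.p.obj (z₁ w π h) :=
        ((φ.w_obj z).symm.trans hi0.symm).trans (hi1.trans (φ.w_obj _))
      obtain ⟨δ, hδ, hδ'⟩ := exists_vert hX (l₁ w π h) l hz (by
        have h0 := congrArg 𝒳.p.map (he.trans (he₁ w π h).symm)
        rw [Functor.map_comp, Functor.map_comp, hie, hie1, p_map_self φ l,
          p_map_self φ (l₁ w π h)] at h0
        simp only [eqToHom_trans_assoc, ← Category.assoc] at h0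
        rw [cancel_mono] at h0
        rw [← cancel_epi (eqToHom (hi0.trans (φ.w_obj z)))]
        simpa using h0)
      obtain ⟨g₂, hg₂, hg₂'⟩ := restr_pull φ g (hg₁ w π h) hX δ
      have e₁ : g₂ = g' := restr_indep φ g hX hterm hconj hg' hg₂'
      have e₂ : i₁ w π h = i ≫ φ.map δ :=
        Vert.cancel hX (hi₁ w π h) (Vert.comp ⟨hi0, hie⟩ (hδ.map φ))
          (k := φ.map (l₁ w π h)) (by rw [Category.assoc, ← map_comp'', hδ', he, he₁])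
      rw [hm₁, e₂, Category.assoc, ← reassoc_of% hg₂, hδ', e₁]
    obtain ⟨ρ, hρ, hρ'⟩ := exists_glue hst hR (x := φ.obj y) (y := y) (φ.w_obj y) rfl m
      (fun w π h => by
        obtain ⟨hi, hie⟩ := hi₁ w π h
        obtain ⟨⟨hg1, hge⟩, -⟩ := hg₁ w π h
        rw [hm₁, Functor.map_comp, Functor.map_comp, hie, hge]
        have h0 := congrArg 𝒳.p.map (he₁ w π h)
        rw [Functor.map_comp, hie, p_map_self φ (l₁ w π h)] at h0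
        rw [← h0]
        simp)
      (fun w' w k π h h' => by
        obtain ⟨hi, hie⟩ := hi₁ w π h
        obtain ⟨z', kz, hkz⟩ := FC16.exists_lift hX (x := z₁ w π h)
          ((φ.w_obj _).symm.trans hi.symm) (𝒳.p.map k)
        haveI := hkz
        obtain ⟨i', hi', hi''⟩ := exists_vert hX (φ.map kz) (k ≫ i₁ w π h)
          ((IsHomLift.domain_eq 𝒳.p (𝒳.p.map k) kz).symm.trans (φ.w_obj z').symm) (by
            rw [Functor.map_comp, hie, p_map_self φ kz,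
              IsHomLift.fac' 𝒳.p (𝒳.p.map k) kz]
            simp)
        obtain ⟨g', hg', hg''⟩ := restr_pull φ g (hg₁ w π h) hX kz
        rw [uniq w' (k ≫ π) h' z' (kz ≫ l₁ w π h) (kz ≫ c₁ w π h) i' g' hi' hg''
          (by rw [map_comp'', reassoc_of% hi'', he₁]), hm₁, reassoc_of% hg', reassoc_of% hi''])
    exact ⟨R, hR, ρ, hρ, fun w π h z l c i g' hi hg' he => (hρ' w π h).trans (uniq w π h z l c i g' hi hg' he)⟩
  choose R hR ρ hρ hρ' using step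
  refine ⟨ρ, fun y => ⟨?_, hρ y⟩, fun y y' f hf => ?_⟩
  · haveI := hρ y
    exact FC16.isIso_of_isHomLift hX (𝟙 (𝒳.p.obj y)) (ρ y)
  haveI := hf
  haveI := hρ y
  have e : 𝒳.p.obj y' = 𝒳.p.obj y := IsHomLift.codomain_eq 𝒳.p (𝟙 (𝒳.p.obj y)) f
  haveI : 𝒳.p.IsHomLift (𝟙 (𝒳.p.obj y)) (ρ y') := e ▸ hρ y'
  obtain ⟨Rx, hRx, hRx'⟩ := Band.exists_local_lift hst hloc y x (term _)
  refine StAlg16.hom_ext_of_cover hst
    (J.intersection_covering hRx (J.intersection_covering (hR y) (J.pullback_stable (eqToHom e.symm) (hR y'))))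
    (φ.map f ≫ ρ y') (ρ y ≫ f) fun w π V v hv hπ => ?_
  haveI := hπ
  obtain ⟨hvx, hvy, hvy'⟩ := hv
  have hw : 𝒳.p.obj w = V := IsHomLift.domain_eq 𝒳.p v π
  subst hw
  have hv' : v = 𝒳.p.map π ≫ eqToHom (φ.w_obj y) := by
    have h0 := IsHomLift.fac' 𝒳.p v π
    simp [h0]
  obtain ⟨z, l, hl⟩ := FC16.exists_lift hX (x := y) rfl v
  haveI := hl
  have ez : 𝒳.p.obj z = 𝒳.p.obj w := IsHomLift.domain_eq 𝒳.p v l
  have el := IsHomLift.fac' 𝒳.p v l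
  obtain ⟨c, -⟩ := hRx' z l (by rw [el]; simpa using Rx.downward_closed hvx (eqToHom ez))
  obtain ⟨g', -, hg'⟩ := restr_pull φ g hg0 hX c
  rw [Category.comp_id] at hg'
  obtain ⟨i, hi, hi'⟩ := exists_vert hX (φ.map l) π (ez.symm.trans (φ.w_obj z).symm) (by
    rw [p_map_self φ l, el, IsHomLift.fac' 𝒳.p v π]
    simp)
  have hR2 : R y' (𝒳.p.map (π ≫ φ.map f) ≫ eqToHom (φ.w_obj y')) := by
    rw [show 𝒳.p.map (π ≫ φ.map f) ≫ eqToHom (φ.w_obj y') = v ≫ eqToHom e.symm by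
      have ef := IsHomLift.fac' 𝒳.p (𝟙 (𝒳.p.obj y)) f
      rw [Functor.map_comp, p_map_self φ f, hv', ef]
      simp]
    exact hvy'
  have e₁ := hρ' y' w (π ≫ φ.map f) hR2 z (l ≫ f) c i g' hi hg' (by rw [map_comp'', reassoc_of% hi'])
  have e₂ := hρ' y w π (hv' ▸ hvy) z l c i g' hi hg' hi'
  rw [← Category.assoc, e₁, reassoc_of% e₂]

end Groth.Agent.GerbAbs
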