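import Groth.Agent.Lib.GerbAbs16.Basic
import Groth.Agent.Lib.GerbAbs16.Glue
import Groth.Prelude.Def_StGerb2

/-! Endofunctors of gerbes trivial on the automorphisms of an object. -/

universe v₃ u₃ v₂ u₂ v u

open CategoryTheory CategoryTheory.Functor

set_option autoImplicit false
set_option linter.style.haveILetI false
set_option linter.unusedSimpArgs false
set_option backward.isDefEq.respectTransparency false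
set_option backward.isDefEq.respectTransparency.types false

namespace Groth.Agent.GerbAbs

open Groth.Agent.FC16

variable {C : Type u} [Category.{v} C] {J : GrothendieckTopology C} {𝒳 : BasedCategory.{v₂, u₂} C}
  {𝒴 : BasedCategory.{v₃, u₃} C}

theorem exists_natural_iso_of_gerbe (h𝒳 : FibCat.IsFibGrpd 𝒳.p) (hY : Gerb.IsGerbe J 𝒴)
    (hpre : Stk.IsPrestack J 𝒴) (φ : 𝒳 ⥤ᵇ 𝒴) (ψ : 𝒴 ⥤ᵇ 𝒳) (x : 𝒳.obj)
    (hT : Limits.IsTerminal (𝒳.p.obj x))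
    (hφ : ∀ (x' : 𝒳.obj) (c : x' ⟶ x), Function.Surjective (Gerb.autMap φ x'))
    (g : ψ.obj (φ.obj x) ⟶ x) (hg : 𝒳.p.IsHomLift (𝟙 (𝒳.p.obj x)) g)
    (hconj : ∀ (x' : 𝒳.obj) (c : x' ⟶ x) (g' : ψ.obj (φ.obj x') ⟶ x'), 𝒳.p.IsHomLift (𝟙 (𝒳.p.obj x')) g' →
      ψ.map (φ.map c) ≫ g = g' ≫ c → ∀ α : Gerb.AutO x', ψ.map (φ.map α.hom.1) ≫ g' = g' ≫ α.hom.1) :
    ∃ σ : ∀ z : 𝒴.obj, φ.obj (ψ.obj z) ⟶ z,
      (∀ z, IsIso (σ z) ∧ 𝒴.p.IsHomLift (𝟙 (𝒴.p.obj z)) (σ z)) ∧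
      (∀ (z z' : 𝒴.obj) (f : z ⟶ z'), 𝒴.p.IsHomLift (𝟙 (𝒴.p.obj z)) f →
        φ.map (ψ.map f) ≫ σ z' = σ z ≫ f) := by
  have h𝒴 := hY.1.1
  haveI := hg
  haveI : IsIso g := isIso_of_isHomLift h𝒳 (𝟙 (𝒳.p.obj x)) g
  -- the transported isomorphisms over `x`
  have hG : ∀ (x' : 𝒳.obj) (c : x' ⟶ x), ∃ G : ψ.obj (φ.obj x') ≅ x',
      𝒳.p.IsHomLift (𝟙 (𝒳.p.obj x')) G.hom ∧ G.hom ≫ c = ψ.map (φ.map c) ≫ g := by
    intro x' c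
    haveI := IsHomLift.map 𝒳.p c
    haveI : 𝒳.p.IsHomLift (𝒳.p.map c) (ψ.map (φ.map c) ≫ g) :=
      IsHomLift.comp_lift_id_right' (p := 𝒳.p) (𝒳.p.map c) _ (𝒳.p.obj x) g
    exact exists_iso_fac h𝒳 (𝒳.p.map c) (ψ.map (φ.map c) ≫ g) c
  choose G hGl hGc using hG
  -- naturality of the transported isomorphisms
  have hGn : ∀ (x₁ x₂ : 𝒳.obj) (e : x₁ ⟶ x₂) (c₁ : x₁ ⟶ x) (c₂ : x₂ ⟶ x),
      (G x₁ c₁).hom ≫ e = ψ.map (φ.map e) ≫ (G x₂ c₂).hom := by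
    intro x₁ x₂ e c₁ c₂
    haveI := IsHomLift.map 𝒳.p c₁
    haveI := IsHomLift.map 𝒳.p c₂
    haveI := IsHomLift.map 𝒳.p e
    haveI he : 𝒳.p.IsHomLift (𝒳.p.map c₁) (e ≫ c₂) :=
      liftEq (hT.hom_ext _ _) (inferInstance : 𝒳.p.IsHomLift (𝒳.p.map e ≫ 𝒳.p.map c₂) (e ≫ c₂))
    obtain ⟨a, ha, ha'⟩ := exists_iso_fac h𝒳 (𝒳.p.map c₁) (e ≫ c₂) c₁
    haveI := ha
    let α : Gerb.AutO x₁ := fiberIso (p := 𝒳.p) (a := Gerb.fib x₁) (b := Gerb.fib x₁) a ha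
    have hα : ψ.map (φ.map a.hom) ≫ (G x₁ c₁).hom = (G x₁ c₁).hom ≫ a.hom :=
      hconj x₁ c₁ (G x₁ c₁).hom (hGl x₁ c₁) (hGc x₁ c₁).symm α
    haveI := hGl x₁ c₁
    haveI := hGl x₂ c₂
    haveI := FC16.isStronglyCartesian h𝒳 (𝒳.p.map c₂) c₂
    haveI : 𝒳.p.IsHomLift (𝒳.p.map e) ((G x₁ c₁).hom ≫ e) :=
      liftEq (Category.id_comp _) (inferInstance : 𝒳.p.IsHomLift (𝟙 (𝒳.p.obj x₁) ≫ 𝒳.p.map e) ((G x₁ c₁).hom ≫ e))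
    haveI : 𝒳.p.IsHomLift (𝒳.p.map e) (ψ.map (φ.map e) ≫ (G x₂ c₂).hom) :=
      IsHomLift.comp_lift_id_right' (p := 𝒳.p) (𝒳.p.map e) _ (𝒳.p.obj x₂) _
    apply IsStronglyCartesian.ext 𝒳.p (𝒳.p.map c₂) c₂ (𝒳.p.map e)
    rw [Category.assoc, Category.assoc, hGc, ← ha', ← Category.assoc (G x₁ c₁).hom, ← hα, Category.assoc, hGc,
      ← Category.assoc, ← Category.assoc, ← map_comp', ← map_comp', ← map_comp', ← map_comp', ha']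
  let Good : 𝒴.obj → Prop := fun w => ∃ (x' : 𝒳.obj) (_ : x' ⟶ x) (r : φ.obj x' ≅ w),
    𝒴.p.IsHomLift (𝟙 (𝒳.p.obj x')) r.hom
  -- good objects are closed under sources
  have good_of : ∀ {w' w : 𝒴.obj} (_ : w' ⟶ w), Good w → Good w' := by
    rintro w' w k ⟨x', c, r, hr⟩
    haveI := hr
    have hw : 𝒴.p.obj w = 𝒳.p.obj x' := IsHomLift.codomain_eq 𝒴.p (𝟙 (𝒳.p.obj x')) r.hom
    let k₀ : 𝒴.p.obj w' ⟶ 𝒳.p.obj x' := 𝒴.p.map k ≫ eqToHom hw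
    haveI : 𝒴.p.IsHomLift k₀ k := IsHomLift.of_fac' 𝒴.p _ _ rfl hw (by simp [k₀])
    obtain ⟨x₁, d, hd⟩ := FC16.exists_lift h𝒳 (x := x') rfl k₀
    haveI := hd
    have hx₁ : 𝒳.p.obj x₁ = 𝒴.p.obj w' := domEq hd
    haveI : 𝒴.p.IsHomLift k₀ (φ.map d ≫ r.hom) := IsHomLift.comp_lift_id_right' (p := 𝒴.p) k₀ _ (𝒳.p.obj x') r.hom
    obtain ⟨r', hr', -⟩ := exists_iso_fac h𝒴 k₀ (φ.map d ≫ r.hom) k
    exact ⟨x₁, d ≫ c, r', hx₁ ▸ hr'⟩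
  -- the local values
  let t : ∀ w, Good w → (w ⟶ φ.obj (ψ.obj w)) := fun w hw =>
    hw.choose_spec.choose_spec.choose.inv ≫ φ.map (G hw.choose hw.choose_spec.choose).inv ≫
      φ.map (ψ.map hw.choose_spec.choose_spec.choose.hom)
  -- the characterisation
  have ht : ∀ (w : 𝒴.obj) (hw : Good w) (x₂ : 𝒳.obj) (c₂ : x₂ ⟶ x) (r₂ : φ.obj x₂ ⟶ w),
      r₂ ≫ t w hw = φ.map (G x₂ c₂).inv ≫ φ.map (ψ.map r₂) := by
    intro w hw x₂ c₂ r₂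
    let x' := hw.choose
    let c : x' ⟶ x := hw.choose_spec.choose
    let r : φ.obj x' ≅ w := hw.choose_spec.choose_spec.choose
    haveI : 𝒴.p.IsHomLift (𝟙 (𝒳.p.obj x')) r.hom := hw.choose_spec.choose_spec.choose_spec
    let k : φ.obj x₂ ⟶ φ.obj x' := r₂ ≫ r.inv
    obtain ⟨e, he⟩ : ∃ e : x₂ ⟶ x', φ.map e = k := by
      let k₀ : 𝒳.p.obj x₂ ⟶ 𝒳.p.obj x' := eqToHom (φ.w_obj x₂).symm ≫ 𝒴.p.map k ≫ eqToHom (φ.w_obj x')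
      obtain ⟨x₁, d, hd⟩ := FC16.exists_lift h𝒳 (x := x') rfl k₀
      haveI := hd
      haveI := IsHomLift.map 𝒳.p c
      haveI := IsHomLift.map 𝒳.p c₂
      haveI : 𝒳.p.IsHomLift (𝒳.p.map c₂) (d ≫ c) :=
        liftEq (hT.hom_ext _ _) (inferInstance : 𝒳.p.IsHomLift (k₀ ≫ 𝒳.p.map c) (d ≫ c))
      obtain ⟨a, ha, -⟩ := exists_iso_fac h𝒳 (𝒳.p.map c₂) c₂ (d ≫ c)
      haveI := ha
      haveI : 𝒴.p.IsHomLift k₀ k := IsHomLift.of_fac' 𝒴.p _ _ (φ.w_obj x₂) (φ.w_obj x') (by simp [k₀])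
      haveI : 𝒳.p.IsHomLift k₀ (a.hom ≫ d) :=
        liftEq (Category.id_comp _) (inferInstance : 𝒳.p.IsHomLift (𝟙 (𝒳.p.obj x₂) ≫ k₀) (a.hom ≫ d))
      obtain ⟨β, hβ, hβ'⟩ := exists_iso_fac h𝒴 k₀ k (φ.map (a.hom ≫ d))
      have hβl : 𝒴.p.IsHomLift (𝟙 (𝒴.p.obj (φ.obj x₂))) β.hom := by rw [φ.w_obj x₂]; exact hβ
      obtain ⟨α, hα⟩ := hφ x₂ c₂ (fiberIso (p := 𝒴.p) (a := Gerb.fib (φ.obj x₂)) (b := Gerb.fib (φ.obj x₂)) β hβl)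
      refine ⟨α.hom.1 ≫ a.hom ≫ d, ?_⟩
      rw [map_comp', ← hβ']
      exact congrArg (· ≫ _) (congrArg (fun a => a.hom.1) hα)
    change r₂ ≫ r.inv ≫ φ.map (G x' c).inv ≫ φ.map (ψ.map r.hom) = _
    have h1 : r₂ = φ.map e ≫ r.hom := by rw [he]; simp [k]
    have h2 : e ≫ (G x' c).inv = (G x₂ c₂).inv ≫ ψ.map (φ.map e) := by
      rw [Iso.comp_inv_eq, Category.assoc, ← hGn x₂ x' e c₂ c, Iso.inv_hom_id_assoc]
    conv_rhs => rw [h1, map_comp', map_comp', ← Category.assoc, ← map_comp', ← h2, map_comp', Category.assoc]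
    rw [h1]
    simp
  -- lifts of the local values
  have ht₀ : ∀ (w : 𝒴.obj) (hw : Good w), 𝒴.p.map (t w hw) =
      eqToHom ((φ.w_obj (ψ.obj w)).trans (ψ.w_obj w)).symm := by
    intro w hw
    obtain ⟨x', c, r, hr⟩ := id hw
    haveI := hr
    haveI : 𝒳.p.IsHomLift (𝟙 (𝒳.p.obj x')) (G x' c).inv := by haveI := hGl x' c; infer_instance
    haveI : 𝒴.p.IsHomLift (𝟙 (𝒳.p.obj x')) (t w hw) := by
      have : t w hw = r.inv ≫ φ.map (G x' c).inv ≫ φ.map (ψ.map r.hom) := by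
        rw [Iso.eq_inv_comp]; exact ht w hw x' c r.hom
      rw [this]
      infer_instance
    simpa using IsHomLift.fac' 𝒴.p (𝟙 (𝒳.p.obj x')) (t w hw)
  have tn : ∀ (w' w : 𝒴.obj) (k : w' ⟶ w) (hw' : Good w') (hw : Good w),
      k ≫ t w hw = t w' hw' ≫ φ.map (ψ.map k) := by
    intro w' w k hw' hw
    obtain ⟨x', c, r, hr⟩ := id hw'
    rw [← cancel_epi r.hom, ← Category.assoc, ht w hw x' c, ← Category.assoc, ht w' hw' x' c, map_comp', map_comp',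
      Category.assoc]
  -- every object is locally good
  have loc : ∀ z : 𝒴.obj, ∃ R ∈ J (𝒴.p.obj z), ∀ (w : 𝒴.obj) (π : w ⟶ z), R (𝒴.p.map π) → Good w := by
    intro z
    obtain ⟨x', c, hc⟩ := FC16.exists_lift h𝒳 (x := x) rfl (hT.from (𝒴.p.obj z))
    have hx' : 𝒳.p.obj x' = 𝒴.p.obj z := domEq hc
    have e : 𝒴.p.obj (φ.obj x') = 𝒴.p.obj z := (φ.w_obj x').trans hx'
    obtain ⟨R, hR, h⟩ := locSurjHom_at J hY.2.2 (φ.obj x') z (eqToHom e) e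
      (IsHomLift.of_fac' (𝟭 C) _ _ e rfl (by simp))
    refine ⟨R, hR, fun w π hπ => ?_⟩
    obtain ⟨y₀, φ₁, ψ₁, hφ₁, hψ₁, -⟩ := h (𝒴.p.map π) hπ
    haveI := hφ₁
    haveI := hψ₁
    obtain ⟨β, -, -⟩ := exists_iso_fac h𝒴 (𝒴.p.map π) π ψ₁
    refine good_of (β.hom ≫ φ₁) ⟨x', c, Iso.refl _, IsHomLift.id (φ.w_obj x')⟩
  choose R hR hgood using loc
  have hglue : ∀ z : 𝒴.obj, ∃ τ : z ⟶ φ.obj (ψ.obj z), 𝒴.p.IsHomLift (𝟙 (𝒴.p.obj z)) τ ∧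
      ∀ (w : 𝒴.obj) (π : w ⟶ z) (h : R z (𝒴.p.map π)), π ≫ τ = t w (hgood z w π h) ≫ φ.map (ψ.map π) := by
    intro z
    obtain ⟨τ, hτ, hτ'⟩ := exists_glue hpre (hR z) (x := z) (y := φ.obj (ψ.obj z)) rfl
      ((φ.w_obj (ψ.obj z)).trans (ψ.w_obj z))
      (fun w π h => t w (hgood z w π (by simpa using h)) ≫ φ.map (ψ.map π))
      (fun w π h => by
        rw [Functor.map_comp, ht₀, map_heq φ (ψ.map π), map_heq ψ π]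
        simp)
      (fun w' w k π h h' => by
        rw [map_comp', map_comp', ← Category.assoc, ← tn, Category.assoc])
    exact ⟨τ, hτ, fun w π h => hτ' w π (by simpa using h)⟩
  choose τ hτ hτ' using hglue
  have hiso : ∀ z, IsIso (τ z) := fun z => haveI := hτ z; isIso_of_isHomLift h𝒴 (𝟙 (𝒴.p.obj z)) (τ z)
  refine ⟨fun z => inv (τ z), fun z => ⟨inferInstance, ?_⟩, fun z z' f hf => ?_⟩
  · haveI := hτ z
    haveI : 𝒴.p.IsHomLift (𝟙 (𝒴.p.obj z)) (asIso (τ z)).hom := hτ z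
    exact inferInstanceAs (𝒴.p.IsHomLift (𝟙 (𝒴.p.obj z)) (asIso (τ z)).inv)
  · haveI := hf
    haveI := hτ z
    rw [IsIso.eq_inv_comp, ← Category.assoc, IsIso.comp_inv_eq]
    have ez : 𝒴.p.obj z' = 𝒴.p.obj z := IsHomLift.codomain_eq 𝒴.p (𝟙 (𝒴.p.obj z)) f
    haveI : 𝒴.p.IsHomLift (𝟙 (𝒴.p.obj z)) (τ z') := ez ▸ hτ z'
    let R₀ : Sieve (𝒴.p.obj z) := R z ⊓ (R z').pullback (eqToHom ez.symm)
    haveI := (hpre.2 R₀ (J.intersection_covering (hR z) (J.pullback_stable _ (hR z')))).2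
    haveI : 𝒴.p.IsHomLift (𝟙 (𝒴.p.obj z)) (φ.map (ψ.map f)) := inferInstance
    haveI : 𝒴.p.IsHomLift (𝟙 (𝒴.p.obj z)) (τ z ≫ φ.map (ψ.map f)) :=
      IsHomLift.comp_lift_id_right' (p := 𝒴.p) (𝟙 (𝒴.p.obj z)) (τ z) (𝒴.p.obj z) (φ.map (ψ.map f))
    haveI : 𝒴.p.IsHomLift (𝟙 (𝒴.p.obj z)) (f ≫ τ z') :=
      IsHomLift.comp_lift_id_right' (p := 𝒴.p) (𝟙 (𝒴.p.obj z)) f (𝒴.p.obj z) (τ z')
    refine hom_ext_of_cover h𝒴 R₀ (f := 𝟙 (𝒴.p.obj z)) _ _ (fun V h hh => ?_)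
    obtain ⟨w, π, hπ⟩ := FC16.exists_lift h𝒴 (x := z) rfl h
    refine ⟨w, π, hπ, ?_⟩
    haveI := hπ
    have hV : 𝒴.p.obj w = V := domEq hπ
    have eπ : 𝒴.p.map π = eqToHom hV ≫ h := by simpa using IsHomLift.fac' 𝒴.p h π
    have eπf : 𝒴.p.map (π ≫ f) = eqToHom hV ≫ h ≫ eqToHom ez.symm := by
      rw [Functor.map_comp, eπ, IsHomLift.fac' 𝒴.p (𝟙 (𝒴.p.obj z)) f]
      simp
    have h1 : R z (𝒴.p.map π) := eπ ▸ (R z).downward_closed hh.1 _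
    have h2 : R z' (𝒴.p.map (π ≫ f)) := by
      rw [eπf]; exact (R z').downward_closed hh.2 _
    rw [← Category.assoc, hτ' z w π h1, ← Category.assoc, hτ' z' w (π ≫ f) h2, Category.assoc,
      ← map_comp', ← map_comp']

end Groth.Agent.GerbAbs
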