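import Groth.Agent.Lib.GerbAbs16.GoodQInst
import Groth.Agent.Lib.StAlg.DiagMor

/-! Charts of gerbes over schemes are smooth. -/

universe u

open CategoryTheory CategoryTheory.Functor CategoryTheory.Limits AlgebraicGeometry Opposite

set_option linter.style.haveILetI false
set_option linter.unusedSectionVars false
set_option backward.isDefEq.respectTransparency false
set_option backward.isDefEq.respectTransparency.types false

namespace Groth.Agent.GerbAbs.Chart

open Groth.Agent.FC16 hiding overMap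
open Groth.Agent.StAlg Groth.Agent.StAlg16 AlgSt

variable {S : Scheme.{u}} {𝒳 𝒜 ℬ ℬ' : AlgSt.Cat S} {V : Over S}

local notation "Jf" => QuotSh.J Scheme.fppfPrecoverage S

/-- functors into a fibre product over a scheme are isomorphic as soon as their components are -/
theorem pairIsoOver {f : ℬ ⥤ᵇ FibCat.overCat V} {g : ℬ' ⥤ᵇ FibCat.overCat V} {z z' : 𝒜 ⥤ᵇ FibCat.fp f g}
    (i₁ : BasedFunctor.comp z (FibCat.fpFst f g) ≅ BasedFunctor.comp z' (FibCat.fpFst f g))
    (i₂ : BasedFunctor.comp z (FibCat.fpSnd f g) ≅ BasedFunctor.comp z' (FibCat.fpSnd f g)) : Nonempty (z ≅ z') := by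
  let F₁ : ∀ a, (z.obj a).obj.fst ≅ (z'.obj a).obj.fst := fun a => appIso i₁ a
  let F₂ : ∀ a, (z.obj a).obj.snd ≅ (z'.obj a).obj.snd := fun a => appIso i₂ a
  refine ⟨BasedNatIso.mkNatIso
    (NatIso.ofComponents (fun a => fpIsoMk (F₁ a) (F₂ a) ?_) (fun {a b} φ => fp_hom_ext
      (i₁.hom.toNatTrans.naturality φ) (i₂.hom.toNatTrans.naturality φ)))
    (fun a => @isHomLift_of_fst _ _ _ _ _ _ _ _ _ _ _ _ _ (isHomLift_appIso_hom i₁ a rfl))⟩
  haveI : ℬ.p.IsHomLift (𝟙 (𝒜.p.obj a)) (F₁ a).hom := isHomLift_appIso_hom i₁ a rfl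
  haveI : ℬ'.p.IsHomLift (𝟙 (𝒜.p.obj a)) (F₂ a).hom := isHomLift_appIso_hom i₂ a rfl
  haveI := iso_lift (z.obj a) (U := 𝒜.p.obj a) (z.w_obj a)
  haveI := iso_lift (z'.obj a) (U := 𝒜.p.obj a) (z'.w_obj a)
  haveI : (FibCat.overCat V).p.IsHomLift (𝟙 (𝒜.p.obj a)) (f.map (F₁ a).hom) :=
    BasedFunctor.preserves_isHomLift f _ _
  haveI : (FibCat.overCat V).p.IsHomLift (𝟙 (𝒜.p.obj a)) (g.map (F₂ a).hom) :=
    BasedFunctor.preserves_isHomLift g _ _
  exact overCat_hom_ext _ _ (inferInstance : (FibCat.overCat V).p.IsHomLift (𝟙 (𝒜.p.obj a)) _) inferInstance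

variable {π : 𝒳 ⥤ᵇ FibCat.overCat V}

/-- A smooth chart over a lift. -/
theorem smooth_of_lift (h𝒳 : IsAlgStack Scheme.fppfPrecoverage 𝒳) (hπ : Gerb.IsGerbeOver Jf π)
    {U W : Over S} {u : FibCat.overCat U ⥤ᵇ 𝒳}
    (hu : AlgSt.RepByAlgSpWith (AlgSp.LocP @Smooth) u)
    {h : U ⟶ V} (j : BasedFunctor.comp u π ≅ AlgSt.overMap h)
    (x : FibCat.overCat W ⥤ᵇ 𝒳) {v : W ⟶ V} (jx : BasedFunctor.comp x π ≅ AlgSt.overMap v) :
    Smooth (pullback.snd h v).left := by
  have gX := h𝒳.isStack.1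
  have hfp := fp_isFibGrpd (overCat_isFibGrpd U) (overCat_isFibGrpd W) gX u x
  obtain ⟨M, c, hc, hcs⟩ := (StAlg.isAlgStack_fp h𝒳.isStack h𝒳.diag (isAlgStack_overCat U) (isAlgStack_overCat W) u x).atlas
  obtain ⟨a, ⟨ia⟩⟩ := exists_overMap_iso (BasedFunctor.comp c (FibCat.fpFst u x))
  obtain ⟨b, ⟨ib⟩⟩ := exists_overMap_iso (BasedFunctor.comp c (FibCat.fpSnd u x))
  have hw : a ≫ h = b ≫ v := eq_of_overMap_iso
    ((overMapComp a h).symm ≪≫ wrIso ia.symm (AlgSt.overMap h) ≪≫ wlIso (BasedFunctor.comp c (FibCat.fpFst u x)) j.symm ≪≫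
      wrIso (wlIso c (FibCat.fpIso u x)) π ≪≫ wlIso (BasedFunctor.comp c (FibCat.fpSnd u x)) jx ≪≫
      wrIso ib (AlgSt.overMap v) ≪≫ overMapComp b v)
  let g : M ⟶ pullback h v := pullback.lift a b hw
  have hga : g ≫ pullback.fst h v = a := pullback.lift_fst _ _ _
  have hgb : g ≫ pullback.snd h v = b := pullback.lift_snd _ _ _
  have hsm : Smooth (g ≫ pullback.snd h v).left := by
    rw [hgb]
    exact of_with_locP_overMap b
      (with_of_iso ib (with_comp goodP_locP (overCat_isFibGrpd M) hfp hc (with_fpSnd x hu)))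
  haveI := idFun_full (𝒳 := FibCat.overCat V)
  haveI := idFun_faithful (𝒳 := FibCat.overCat V)
  let σ : FibCat.overCat (pullback h v) ⥤ᵇ FibCat.fp (BasedFunctor.comp u π) (BasedFunctor.comp x π) :=
    BasedFunctor.comp (overPullback (pullback.condition (f := h) (g := v)))
      (fpMap (F := AlgSt.overMap h) (G := AlgSt.overMap v) (F' := BasedFunctor.comp u π) (G' := BasedFunctor.comp x π)
        (a := BasedFunctor.id _) (b := BasedFunctor.id _) (s := BasedFunctor.id _) j jx)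
  have hσ : FibCat.IsEquivOver σ := isEquivOver_comp (overPullback_isEquivOver (IsPullback.of_hasPullback h v))
    (fpMap_isEquivOver _ _ isEquivOver_id isEquivOver_id)
  obtain ⟨i⟩ := pairIsoOver (z := BasedFunctor.comp (AlgSt.overMap g) σ) (z' := BasedFunctor.comp c (cmp u x π))
    (overMapComp g (pullback.fst h v) ≪≫ eqToIso (congrArg AlgSt.overMap hga) ≪≫ ia.symm)
    (overMapComp g (pullback.snd h v) ≪≫ eqToIso (congrArg AlgSt.overMap hgb) ≪≫ ib.symm)
  have hg : ∀ {Q : MorphismProperty (AlgSp.Sp S)}, GoodQ (𝒳 := 𝒳) Q → AlgSt.RepByAlgSpWith Q c →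
      AlgSt.RepByAlgSpWith Q (AlgSt.overMap g) := fun {Q} hQ hQc =>
    (with_congr (f := BasedFunctor.comp c (cmp u x π)) (f' := AlgSt.overMap g) (a := BasedFunctor.id _) (b := σ)
      isEquivOver_id hσ i).1 (with_comp hQ.good (overCat_isFibGrpd M) hfp hQc (with_cmp' u x (with_diag h𝒳 hπ hQ)))
  have hg₁ : Flat g.left := of_with_locP_overMap g (hg goodQ_flat (with_locP_mono smooth_le_flat hc))
  have hg₂ : LocallyOfFinitePresentation g.left :=
    of_with_locP_overMap g (hg goodQ_lfp (with_locP_mono smooth_le_lfp hc))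
  have hg₃ : Surjective g.left := by
    have ha := surjective_ofChart (overCat_isFibGrpd (pullback h v)) (hg goodQ_surjective hcs)
    refine ⟨fun w => ?_⟩
    obtain ⟨m, hm⟩ := ha (Points.mk (chartPt (pullback h v) w))
    refine ⟨m, ?_⟩
    rw [ofChart_eq] at hm
    have h1 := congrArg ptOf hm
    rwa [ptOf_map_overMap, ptOf_chartPt, ptOf_chartPt] at h1
  exact AlgSpDescent.smooth_of_fppf_comp g.left (pullback.snd h v).left hg₁ hg₂ hg₃ hsm

/-- Charts of a gerbe over a scheme are smooth. -/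
theorem smooth_chart (h𝒳 : IsAlgStack Scheme.fppfPrecoverage 𝒳) (hπ : Gerb.IsGerbeOver Jf π)
    {U : Over S} {u : FibCat.overCat U ⥤ᵇ 𝒳} (hu : AlgSt.RepByAlgSpWith (AlgSp.LocP @Smooth) u)
    {h : U ⟶ V} (j : BasedFunctor.comp u π ≅ AlgSt.overMap h) : Smooth h.left := by
  obtain ⟨R, hR, hR'⟩ := exists_sections h𝒳.isStack.1 hπ.1
  rw [GrothendieckTopology.mem_over_iff, Precoverage.mem_toGrothendieck_iff_of_isStableUnderComposition] at hR
  obtain ⟨R₀, hR₀, hle⟩ := hR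
  refine Quot16.of_fppf_family h.left hR₀ fun Y' f hf => ?_
  let v : Over.mk (f ≫ V.hom) ⟶ V := Over.homMk f rfl
  obtain ⟨x, ⟨jx⟩⟩ := hR' v ((Sieve.overEquiv_iff _ _).1 (hle _ _ hf))
  have sq := (IsPullback.of_hasPullback h v).map (Over.forget S)
  have e : sq.isoPullback.inv ≫ (pullback.snd h v).left = pullback.snd h.left f := sq.isoPullback_inv_snd
  rw [← e]
  haveI := smooth_of_lift h𝒳 hπ hu j x jx
  infer_instance

end Groth.Agent.GerbAbs.Chart
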